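import Mathlib
import Cfsg.Prelude.Def_Transfer
import Cfsg.Agent.H71.Frattini
import Cfsg.Agent.H3.PGroup

/-!
# Extraspecial groups of order 32 from elementwise data (helper9)

Uses `Cfsg.Agent.H71.frattini_le_of_pow_comm` (helper71) and
`Cfsg.Agent.H3.commutator_le_frattini` (helper3).
-/

set_option autoImplicit false

namespace Cfsg.Agent.H9.J2

/-- elementwise data making a group of order 32 extraspecial: a central involution `z` such that
the centre is `{1, z}`, all squares lie in `{1, z}` and `z` is a commutator -/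
def ESData (P : Type*) [Group P] : Prop :=
  ∃ z : P, z ≠ 1 ∧ (∀ a, a * z = z * a) ∧ (∀ c, (∀ a, a * c = c * a) → c = 1 ∨ c = z) ∧
    (∀ a, a * a = 1 ∨ a * a = z) ∧ (∃ a b, a * b * a⁻¹ * b⁻¹ = z) ∧ Nat.card P = 32

theorem ESData.of_equiv {P P' : Type*} [Group P] [Group P'] (e : P ≃* P') (h : ESData P) :
    ESData P' := by
  obtain ⟨z, hz1, hzc, hcen, hsq, ⟨a, b, hab⟩, hcard⟩ := h
  refine ⟨e z, ?_, ?_, ?_, ?_, ⟨e a, e b, ?_⟩, ?_⟩
  · intro h
    exact hz1 (e.injective (h.trans (map_one e).symm))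
  · intro a'
    obtain ⟨a, rfl⟩ := e.surjective a'
    rw [← map_mul, ← map_mul, hzc]
  · intro c' hc'
    obtain ⟨c, rfl⟩ := e.surjective c'
    have hc : ∀ a, a * c = c * a := fun a => e.injective (by
      rw [map_mul, map_mul]
      exact hc' (e a))
    rcases hcen c hc with rfl | rfl
    · left
      exact map_one e
    · right
      rfl
  · intro a'
    obtain ⟨a, rfl⟩ := e.surjective a'
    rcases hsq a with h | h
    · left
      rw [← map_mul, h, map_one]
    · right
      rw [← map_mul, h]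
  · rw [← map_inv, ← map_inv, ← map_mul, ← map_mul, ← map_mul, hab]
  · rw [← Nat.card_congr e.toEquiv, hcard]

theorem ESData.card {P : Type*} [Group P] (h : ESData P) : Nat.card P = 32 := by
  obtain ⟨z, -, -, -, -, -, hcard⟩ := h
  exact hcard

theorem ESData.extraspecial {P : Type*} [Group P] (h : ESData P) : Cfsg.IsExtraspecial 2 P := by
  obtain ⟨z, hz1, hzc, hcen, hsq, ⟨a, b, hab⟩, hcard⟩ := h
  haveI : Fact (Nat.Prime 2) := ⟨Nat.prime_two⟩
  haveI : Finite P := Nat.finite_of_card_ne_zero (by rw [hcard]; norm_num)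
  have hG : IsPGroup 2 P := IsPGroup.of_card (n := 5) (by rw [hcard]; norm_num)
  have hcenter : ∀ c : P, c ∈ Subgroup.center P ↔ c = 1 ∨ c = z := by
    intro c
    rw [Subgroup.mem_center_iff]
    constructor
    · exact hcen c
    · rintro (rfl | rfl)
      · intro g
        simp
      · exact hzc
  have hsqc : ∀ x : P, x * x ∈ Subgroup.center P := fun x => (hcenter _).2 (hsq x)
  have hcommc : ∀ x y : P, x * y * x⁻¹ * y⁻¹ ∈ Subgroup.center P := by
    intro x y
    have hs : (x * x)⁻¹ ∈ Subgroup.center P := inv_mem (hsqc x)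
    have ht : (y * y)⁻¹ ∈ Subgroup.center P := inv_mem (hsqc y)
    have c1 := (Subgroup.mem_center_iff.1 hs) y
    have e : x * y * x⁻¹ * y⁻¹ = (x * y) * (x * y) * (x * x)⁻¹ * (y * y)⁻¹ := by
      calc x * y * x⁻¹ * y⁻¹ = x * y * x * ((x * x)⁻¹ * y) * (y * y)⁻¹ := by group
        _ = x * y * x * (y * (x * x)⁻¹) * (y * y)⁻¹ := by rw [c1]
        _ = (x * y) * (x * y) * (x * x)⁻¹ * (y * y)⁻¹ := by group
    rw [e]
    exact mul_mem (mul_mem (hsqc (x * y)) hs) ht
  have hcard2 : Nat.card (Subgroup.center P) = 2 := by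
    have e : ((Subgroup.center P : Subgroup P) : Set P) = {1, z} := by
      ext c
      simp only [SetLike.mem_coe, Set.mem_insert_iff, Set.mem_singleton_iff]
      exact hcenter c
    rw [← SetLike.coe_sort_coe, Nat.card_coe_set_eq, e, Set.ncard_pair (Ne.symm hz1)]
  have hcomEq : commutator P = Subgroup.center P := by
    apply le_antisymm
    · rw [commutator_eq_closure, Subgroup.closure_le]
      rintro _ ⟨x, y, rfl⟩
      rw [SetLike.mem_coe, commutatorElement_def]
      exact hcommc x y
    · intro c hc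
      rcases (hcenter c).1 hc with rfl | rfl
      · exact one_mem _
      · rw [← hab, ← commutatorElement_def]
        exact Subgroup.commutator_mem_commutator (Subgroup.mem_top a) (Subgroup.mem_top b)
  have hfrat : frattini P = Subgroup.center P := by
    apply le_antisymm
    · exact Cfsg.Agent.H71.frattini_le_of_pow_comm 2 Nat.prime_two (Subgroup.center P)
        (fun x => by rw [pow_two]; exact hsqc x) hcommc
    · rw [← hcomEq]
      exact Cfsg.Agent.H3.commutator_le_frattini hG
  exact ⟨⟨hG, hfrat, hcomEq⟩, hcard2⟩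

/-- transport of the conclusion along an isomorphism of the ambient group -/
theorem es_transport {A B : Type*} [Group A] [Group B] (φ : A ≃* B)
    (h : ∃ (Q : Subgroup A) (_ : Q.Normal), ESData Q ∧
      Nonempty (A ⧸ Q ≃* alternatingGroup (Fin 5))) :
    ∃ (Q : Subgroup B) (_ : Q.Normal), ESData Q ∧
      Nonempty (B ⧸ Q ≃* alternatingGroup (Fin 5)) := by
  obtain ⟨Q, hQ, hes, ⟨ψ⟩⟩ := h
  have hn : (Q.map φ.toMonoidHom).Normal := Subgroup.Normal.map hQ _ φ.surjective
  refine ⟨Q.map φ.toMonoidHom, hn, ?_, ?_⟩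
  · exact hes.of_equiv (φ.subgroupMap Q)
  · exact ⟨(QuotientGroup.congr Q (Q.map φ.toMonoidHom) φ rfl).symm.trans ψ⟩

end Cfsg.Agent.H9.J2
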