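import Cfsg.Agent.H9.J2.Pairs

/-!
# The centraliser of a reflection in `J2` has shape `2^{1+4} : A5` (helper9)
-/

set_option autoImplicit false
open Quaternion

namespace Cfsg.Agent.H9.J2

open Q8 Cfsg.Spor MulAction

/-! ## commutators in a group all of whose squares lie in `{1, z}` -/

theorem comm_of_sq {P : Type*} [Group P] (z : P) (hzc : ∀ a, a * z = z * a)
    (hsq : ∀ a : P, a * a = 1 ∨ a * a = z) (x y : P) :
    x * y * x⁻¹ * y⁻¹ = 1 ∨ x * y * x⁻¹ * y⁻¹ = z := by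
  have hcen : ∀ a : P, ∀ b : P, b * (a * a)⁻¹ = (a * a)⁻¹ * b := by
    intro a b
    rcases hsq a with h | h
    · rw [h]; simp
    · rw [h]
      have := hzc b
      calc b * z⁻¹ = z⁻¹ * (z * b) * z⁻¹ := by group
        _ = z⁻¹ * (b * z) * z⁻¹ := by rw [this]
        _ = z⁻¹ * b := by group
  have e : x * y * x⁻¹ * y⁻¹ = (x * y) * (x * y) * (x * x)⁻¹ * (y * y)⁻¹ := by
    calc x * y * x⁻¹ * y⁻¹ = x * y * x * ((x * x)⁻¹ * y) * (y * y)⁻¹ := by group
      _ = x * y * x * (y * (x * x)⁻¹) * (y * y)⁻¹ := by rw [hcen x y]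
      _ = (x * y) * (x * y) * (x * x)⁻¹ * (y * y)⁻¹ := by group
  rw [e]
  rcases hsq z with hz | hz
  · have hzi : z⁻¹ = z := inv_eq_of_mul_eq_one_left hz
    rcases hsq (x * y) with h1 | h1 <;> rcases hsq x with h2 | h2 <;> rcases hsq y with h3 | h3 <;>
      rw [h1, h2, h3] <;> simp [hzi, hz]
  · have hz1 : z = 1 := by
      have := congrArg (fun t => z⁻¹ * t) hz
      simpa using this
    subst hz1
    rcases hsq (x * y) with h1 | h1 <;> rcases hsq x with h2 | h2 <;> rcases hsq y with h3 | h3 <;>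
      rw [h1, h2, h3] <;> simp

/-! ## the image of the stabiliser of `2e₁` -/

theorem qs_stab (q : ↥QS) : piJ (q : ↥twoJ2) • xk 0 = xk 0 := by
  rw [piJ_smul]
  apply Subtype.ext
  rw [smul_val]
  show ((q : ↥twoJ2) : Equiv.Perm LL) * Fk 0 * ((q : ↥twoJ2) : Equiv.Perm LL)⁻¹ = Fk 0
  rw [Fk0_eq]
  exact conj_of_comm (qs_comm_F0 q)

/-- the stabiliser of `2e₁` mapped into the stabiliser of the first reflection in `J2` -/
noncomputable def qHom : ↥QS →* ↥C0 :=
  (piJ.comp QS.subtype).codRestrict C0 (fun q => qs_stab q)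

theorem qHom_val (q : ↥QS) : ((qHom q : ↥C0) : J2) = piJ (q : ↥twoJ2) := rfl

theorem nuG_not_fix : nu (EL 0) ≠ EL 0 := by
  intro h
  have h2 := congrArg Subtype.val h
  rw [nu_apply] at h2
  have h3 : -(eV 0 0) = eV 0 0 := congrFun h2 0
  have h4 : eV 0 0 = 0 := eq_zero_of_eq_neg h3.symm
  have h5 : (2 : ℍ[ℝ]) = 0 := by simpa [eV] using h4
  exact one_ne_zero (two_mul_cancel (a := (1 : ℍ[ℝ])) (b := 0) (by rw [mul_one, mul_zero, h5]))

theorem qHom_injective : Function.Injective qHom := by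
  rw [injective_iff_map_eq_one]
  intro q hq
  have h1 : piJ (q : ↥twoJ2) = 1 := by
    rw [← qHom_val, hq]
    rfl
  have h2 : (q : ↥twoJ2) ∈ Subgroup.center ↥twoJ2 := (QuotientGroup.eq_one_iff _).1 h1
  rcases center_cases h2 with h3 | h3
  · exact Subtype.ext h3
  · exfalso
    have h4 := qs_fix q
    rw [h3] at h4
    exact nuG_not_fix h4

/-! ## the image of the stabiliser of `2e₁` acts trivially on the five pairs -/

def bF : Fin 5 → ℕ := ![52, 77, 98, 169, 188]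

def pairProdOK (a b : ℕ) : Bool :=
  decide (applyW [b, a] dV = some dV) && decide (applyW [b, a] e2V = some ne2V) &&
    decide (applyW [b, a] e3V = some ne3V)

set_option maxRecDepth 100000 in
theorem bF_ok : ∀ i : Fin 5, pairProdOK (aF i) (bF i) = true ∧
    (bF i < 315 ∧ (repL.getD (bF i) dV).x = zero) ∧ pairN (bF i) = (i : ℕ) := by decide +kernel

theorem pair_prod (i : Fin 5) : Fk (aF i) * Fk (bF i) = zP := by
  have h := (bF_ok i).1
  simp only [pairProdOK, Bool.and_eq_true, decide_eq_true_eq] at h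
  obtain ⟨⟨h1, h2⟩, h3⟩ := h
  have e : Fk (aF i) * Fk (bF i) = wordG [bF i, aF i] := by simp [wordG]
  rw [e]
  apply tj_rigid2 (wordG_mem _) zP_mem
  intro s
  fin_cases s
  · apply Subtype.ext
    show ((wordG [bF i, aF i] (EL 0) : LL) : V) = ((zP (EL 0) : LL) : V)
    rw [zP_EL0, EL0_eq]
    exact wordG_frame dV_min h1
  · apply Subtype.ext
    show ((wordG [bF i, aF i] (EL 1) : LL) : V) = ((zP (EL 1) : LL) : V)
    rw [zP_EL1, EL1_eq, ← ne2V_toV]
    exact wordG_frame e2V_min h2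
  · apply Subtype.ext
    show ((wordG [bF i, aF i] (EL 2) : LL) : V) = ((zP (EL 2) : LL) : V)
    rw [zP_EL2, EL2_eq, ← ne3V_toV]
    exact wordG_frame e3V_min h3

theorem zP_mul_Fa (i : Fin 5) : zP * Fk (aF i) = Fk (bF i) := by
  have hq := qs_comm_zP (mkQ (Fk (aF i)) (Fk_mem _) (Fk_fix_of_perp (aF_ok i).1.2))
  have hq' : Fk (aF i) * zP = zP * Fk (aF i) := hq
  rw [← hq', ← pair_prod i, ← mul_assoc, Fk_mul_self, one_mul]

theorem qs_sq (a : ↥QS) : a * a = 1 ∨ a * a = zQ := by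
  obtain ⟨w, hw, e, f0⟩ := qs_word a
  rcases word_sq hw f0 with h | h
  · left
    apply Subtype.ext
    apply Subtype.ext
    show ((a : ↥twoJ2) : Equiv.Perm LL) * ((a : ↥twoJ2) : Equiv.Perm LL) = 1
    rw [e, h]
  · right
    apply Subtype.ext
    apply Subtype.ext
    show ((a : ↥twoJ2) : Equiv.Perm LL) * ((a : ↥twoJ2) : Equiv.Perm LL) = zP
    rw [e, h]

theorem qHom_ker (q : ↥QS) : PhiH (qHom q) = 1 := by
  refine Equiv.ext fun i => ?_
  rw [PhiH_apply, Equiv.Perm.one_apply]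
  have ha := (aF_ok i).1
  let b : ↥QS := mkQ (Fk (aF i)) (Fk_mem _) (Fk_fix_of_perp ha.2)
  have hcomm := comm_of_sq zQ (fun a => Subtype.ext (Subtype.ext (qs_comm_zP a))) qs_sq q b
  have key : ((qHom q : ↥C0) : J2) • xk (aF i) = xk (aF i) ∨
      ((qHom q : ↥C0) : J2) • xk (aF i) = xk (bF i) := by
    rw [qHom_val, piJ_smul]
    rcases hcomm with h | h
    · left
      apply Subtype.ext
      rw [smul_val]
      have h' : ((q : ↥twoJ2) : Equiv.Perm LL) * Fk (aF i) * ((q : ↥twoJ2) : Equiv.Perm LL)⁻¹ *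
          (Fk (aF i))⁻¹ = 1 := congrArg (fun t : ↥QS => ((t : ↥twoJ2) : Equiv.Perm LL)) h
      exact mul_inv_eq_one.1 h'
    · right
      apply Subtype.ext
      rw [smul_val]
      have h' : ((q : ↥twoJ2) : Equiv.Perm LL) * Fk (aF i) * ((q : ↥twoJ2) : Equiv.Perm LL)⁻¹ *
          (Fk (aF i))⁻¹ = zP := congrArg (fun t : ↥QS => ((t : ↥twoJ2) : Equiv.Perm LL)) h
      show ((q : ↥twoJ2) : Equiv.Perm LL) * Fk (aF i) * ((q : ↥twoJ2) : Equiv.Perm LL)⁻¹ =
        Fk (bF i)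
      rw [← zP_mul_Fa i, ← h']
      group
  unfold pairSmul
  rcases key with h | h
  · rw [h, idxOf_xk ha.1]
    exact pairF_aF i
  · rw [h, idxOf_xk (bF_ok i).2.1.1]
    exact Fin.ext ((pairF_val (bF_ok i).2.1).trans (bF_ok i).2.2)

/-! ## three elements of the stabiliser and their action on the pairs -/

/-- the word `w` maps `rep p` to `u • rep k` -/
def wOK (w : List ℕ) (k p ui : ℕ) : Bool :=
  match frcV (repL.getD p dV) (fun x => applyW w x) with
  | some y => frcV (repL.getD k dV) (fun v => usmB (unitL.getD ui one) v y)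
  | none => false

theorem wOK_spec {w : List ℕ} {k p ui : ℕ} (h : wOK w k p ui = true) :
    wordG w * Fk p * (wordG w)⁻¹ = Fk k := by
  rw [wOK, frcV_eq] at h
  cases ha : applyW w (repL.getD p dV) with
  | none => rw [ha] at h; exact absurd h (by simp)
  | some y =>
    rw [ha] at h
    simp only [frcV_eq] at h
    obtain ⟨hy, e⟩ := applyW_spec _ _ _ ha (rep_MV p)
    have hu := usmB_spec h
    have hunit := unit_props (getD_unit ui)
    rw [Fk, e, hu]
    exact reflV_smul hunit.1 hunit.2 (rep_MV k)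

/-- the element of the stabiliser given by a word fixing the first reflection -/
noncomputable def cW (w : List ℕ) (u : ℕ) (h : wOK w 0 0 u = true) : ↥C0 :=
  ⟨piJ ⟨wordG w, wordG_mem w⟩, by
    show piJ ⟨wordG w, wordG_mem w⟩ • xk 0 = xk 0
    rw [piJ_smul]
    exact Subtype.ext (wOK_spec h)⟩

theorem PhiH_cW (w : List ℕ) (u : ℕ) (h : wOK w 0 0 u = true) (i : Fin 5) (l u' : ℕ)
    (hl : l < 315) (h' : wOK w l (aF i) u' = true) : PhiH (cW w u h) i = pairF l := by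
  rw [PhiH_apply]
  unfold pairSmul
  have e : ((cW w u h : ↥C0) : J2) • xk (aF i) = xk l := by
    show piJ ⟨wordG w, wordG_mem w⟩ • xk (aF i) = xk l
    rw [piJ_smul]
    exact Subtype.ext (wOK_spec h')
  rw [e, idxOf_xk hl]

def s1 : Equiv.Perm (Fin 5) := Equiv.swap 0 4 * Equiv.swap 1 3
def s2 : Equiv.Perm (Fin 5) := Equiv.swap 0 2 * Equiv.swap 1 4
def s3 : Equiv.Perm (Fin 5) := Equiv.swap 0 3 * Equiv.swap 1 2

def w1 : List ℕ := [130, 196]
def w2 : List ℕ := [67, 199]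
def w3 : List ℕ := [15, 295]

def l1 : Fin 5 → ℕ := ![188, 169, 84, 28, 19]
def u1 : Fin 5 → ℕ := ![27, 12, 119, 9, 26]
def l2 : Fin 5 → ℕ := ![98, 188, 19, 91, 28]
def u2 : Fin 5 → ℕ := ![23, 95, 56, 119, 20]
def l3 : Fin 5 → ℕ := ![169, 84, 77, 19, 107]
def u3 : Fin 5 → ℕ := ![53, 6, 22, 40, 53]

set_option maxRecDepth 100000 in
theorem w1_ok : wOK w1 0 0 45 = true ∧ ∀ i : Fin 5, l1 i < 315 ∧
    wOK w1 (l1 i) (aF i) (u1 i) = true ∧ pairF (l1 i) = s1 i := by decide +kernel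

set_option maxRecDepth 100000 in
theorem w2_ok : wOK w2 0 0 68 = true ∧ ∀ i : Fin 5, l2 i < 315 ∧
    wOK w2 (l2 i) (aF i) (u2 i) = true ∧ pairF (l2 i) = s2 i := by decide +kernel

set_option maxRecDepth 100000 in
theorem w3_ok : wOK w3 0 0 53 = true ∧ ∀ i : Fin 5, l3 i < 315 ∧
    wOK w3 (l3 i) (aF i) (u3 i) = true ∧ pairF (l3 i) = s3 i := by decide +kernel

theorem s1_mem : s1 ∈ PhiH.range :=
  ⟨cW w1 45 w1_ok.1, Equiv.ext fun i =>
    (PhiH_cW w1 45 w1_ok.1 i (l1 i) (u1 i) (w1_ok.2 i).1 (w1_ok.2 i).2.1).trans (w1_ok.2 i).2.2⟩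

theorem s2_mem : s2 ∈ PhiH.range :=
  ⟨cW w2 68 w2_ok.1, Equiv.ext fun i =>
    (PhiH_cW w2 68 w2_ok.1 i (l2 i) (u2 i) (w2_ok.2 i).1 (w2_ok.2 i).2.1).trans (w2_ok.2 i).2.2⟩

theorem s3_mem : s3 ∈ PhiH.range :=
  ⟨cW w3 53 w3_ok.1, Equiv.ext fun i =>
    (PhiH_cW w3 53 w3_ok.1 i (l3 i) (u3 i) (w3_ok.2 i).1 (w3_ok.2 i).2.1).trans (w3_ok.2 i).2.2⟩

/-! ## counting -/

def gS : Fin 4 → Equiv.Perm (Fin 5) := ![1, s1, s2, s3]

def TS : Finset (Equiv.Perm (Fin 5)) :=
  Finset.image (fun p : Fin 4 × Fin 4 × Fin 4 × Fin 4 =>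
    gS p.1 * gS p.2.1 * gS p.2.2.1 * gS p.2.2.2) Finset.univ

set_option maxRecDepth 100000 in
theorem TS_card : 31 ≤ TS.card := by decide +kernel

theorem gS_mem (k : Fin 4) : gS k ∈ PhiH.range := by
  fin_cases k
  · exact one_mem _
  · exact s1_mem
  · exact s2_mem
  · exact s3_mem

theorem TS_subset : (TS : Set (Equiv.Perm (Fin 5))) ⊆ (PhiH.range : Set (Equiv.Perm (Fin 5))) := by
  intro t ht
  rw [Finset.mem_coe, TS, Finset.mem_image] at ht
  obtain ⟨p, -, rfl⟩ := ht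
  exact mul_mem (mul_mem (mul_mem (gS_mem _) (gS_mem _)) (gS_mem _)) (gS_mem _)

theorem card_range_ge : 31 ≤ Nat.card ↥PhiH.range := by
  have h1 : Nat.card ↥PhiH.range = (PhiH.range : Set (Equiv.Perm (Fin 5))).ncard :=
    Nat.card_coe_set_eq _
  rw [h1]
  have h2 := Set.ncard_le_ncard TS_subset (Set.toFinite _)
  rw [Set.ncard_coe_finset] at h2
  exact TS_card.trans h2

theorem card_qrange : Nat.card ↥qHom.range = 32 := by
  rw [← Nat.card_congr (MonoidHom.ofInjective qHom_injective).toEquiv]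
  exact card_QS

theorem qrange_le_ker : qHom.range ≤ PhiH.ker := by
  rintro _ ⟨q, rfl⟩
  exact qHom_ker q

theorem card_ker_range : Nat.card ↥PhiH.ker = 32 ∧ Nat.card ↥PhiH.range = 60 := by
  have h1 := Subgroup.card_eq_card_quotient_mul_card_subgroup PhiH.ker
  rw [Nat.card_congr (QuotientGroup.quotientKerEquivRange PhiH).toEquiv] at h1
  have h0 : Nat.card ↥C0 = 1920 := card_stab0
  rw [h0] at h1
  have h2 : 32 ∣ Nat.card ↥PhiH.ker := by
    have := Subgroup.card_dvd_of_le qrange_le_ker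
    rwa [card_qrange] at this
  have h3 := card_range_ge
  obtain ⟨m, hm⟩ := h2
  rw [hm] at h1
  have h4 : Nat.card ↥PhiH.range * m = 60 := by nlinarith
  have h5 : Nat.card ↥PhiH.range ∣ 60 := Dvd.intro _ h4
  have h6 : Nat.card ↥PhiH.range ≤ 60 := Nat.le_of_dvd (by norm_num) h5
  have h7 : Nat.card ↥PhiH.range = 60 := by
    have : ∀ n : ℕ, 31 ≤ n → n ≤ 60 → n ∣ 60 → n = 60 := by decide
    exact this _ h3 h6 h5
  rw [h7] at h4
  have h8 : m = 1 := by omega
  rw [h8] at hm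
  exact ⟨by omega, h7⟩

theorem ker_eq : PhiH.ker = qHom.range := by
  have : Finite ↥C0 := Nat.finite_of_card_ne_zero (by rw [card_stab0]; norm_num)
  symm
  apply Subgroup.eq_of_le_of_card_ge qrange_le_ker
  rw [card_ker_range.1, card_qrange]

theorem range_eq : PhiH.range = alternatingGroup (Fin 5) := by
  apply Equiv.Perm.eq_alternatingGroup_of_index_eq_two
  have h := Subgroup.card_mul_index PhiH.range
  rw [card_ker_range.2, Nat.card_perm, Nat.card_eq_fintype_card, Fintype.card_fin] at h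
  have : (5 : ℕ).factorial = 120 := by decide
  rw [this] at h
  omega

/-- the structure of the stabiliser of the first reflection -/
theorem c0_structure : ∃ (Q : Subgroup ↥C0) (_ : Q.Normal), ESData Q ∧
    Nonempty (↥C0 ⧸ Q ≃* alternatingGroup (Fin 5)) := by
  refine ⟨PhiH.ker, MonoidHom.normal_ker PhiH, ?_, ?_⟩
  · have e1 : ↥QS ≃* ↥qHom.range := MonoidHom.ofInjective qHom_injective
    have e2 : ↥qHom.range ≃* ↥PhiH.ker := MulEquiv.subgroupCongr ker_eq.symm
    exact esdata_QS.of_equiv (e1.trans e2)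
  · exact ⟨(QuotientGroup.quotientKerEquivRange PhiH).trans (MulEquiv.subgroupCongr range_eq)⟩

theorem stab_structure (x : XR) : ∃ (Q : Subgroup ↥(stabilizer J2 x)) (_ : Q.Normal), ESData Q ∧
    Nonempty (↥(stabilizer J2 x) ⧸ Q ≃* alternatingGroup (Fin 5)) := by
  obtain ⟨c, hc⟩ := MulAction.exists_smul_eq J2 (xk 0) x
  exact es_transport (MulAction.stabilizerEquivStabilizer hc.symm) c0_structure

/-- the centraliser of the image of a reflection in `J2` has shape `2^{1+4} : A5` -/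
theorem cent_structure (f : Equiv.Perm ↥icoLeech) (hf : IsIcoReflection f) (hfm : f ∈ twoJ2) :
    ∃ (Q : Subgroup ↥(Subgroup.centralizer {(QuotientGroup.mk ⟨f, hfm⟩ : J2)})) (_ : Q.Normal),
      Nat.card Q = 32 ∧ Cfsg.IsExtraspecial 2 Q ∧
        Nonempty (↥(Subgroup.centralizer {(QuotientGroup.mk ⟨f, hfm⟩ : J2)}) ⧸ Q ≃*
          alternatingGroup (Fin 5)) := by
  have key : ∀ (C : Subgroup J2), C = stabilizer J2 (⟨f, hf⟩ : XR) →
      ∃ (Q : Subgroup ↥C) (_ : Q.Normal), Nat.card Q = 32 ∧ Cfsg.IsExtraspecial 2 Q ∧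
        Nonempty (↥C ⧸ Q ≃* alternatingGroup (Fin 5)) := by
    intro C hC
    subst hC
    obtain ⟨Q, hQ, hes, hiso⟩ := stab_structure ⟨f, hf⟩
    exact ⟨Q, hQ, hes.card, hes.extraspecial, hiso⟩
  exact key _ (cent_eq_stab ⟨f, hf⟩)

end Cfsg.Agent.H9.J2
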