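import Cfsg.Agent.H9.J2.Enum

/-! generated: digit-level keys (helper9) -/

set_option autoImplicit false

namespace Cfsg.Agent.H9.J2

def icoD8 (d0 d1 d2 d3 d4 d5 d6 d7 : ℕ) : Bool :=
  Nat.beq (Nat.mod (Nat.add (Nat.add (Nat.add d0 d1) d3) d6) 2) 0 &&
    Nat.beq (Nat.mod (Nat.add (Nat.add (Nat.add d3 d4) d6) d7) 2) 0 &&
    Nat.beq (Nat.mod (Nat.add (Nat.add (Nat.add d1 d2) d3) d4) 2) 0 &&
    Nat.beq (Nat.mod (Nat.add (Nat.add (Nat.add d1 d4) d5) d6) 2) 0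

def gH8 (d0 d1 d2 d3 d4 d5 d6 d7 : ℕ) : ℕ :=
  Nat.add (Nat.div (Nat.mod (Nat.add (Nat.add (Nat.add (Nat.add d0 d2) (Nat.mul 2 d3)) (Nat.mul 3 d4)) (Nat.mul 3 d6)) 4) 2) (Nat.add (Nat.mul 2 (Nat.div (Nat.mod (Nat.add (Nat.add (Nat.add (Nat.add d1 (Nat.mul 3 d3)) (Nat.mul 2 d4)) d5) d7) 4) 2)) (Nat.add (Nat.mul 4 (Nat.div (Nat.mod (Nat.add (Nat.add (Nat.add (Nat.add d1 d3) (Nat.mul 3 d5)) (Nat.mul 2 d6)) d7) 4) 2)) (Nat.mul 8 (Nat.div (Nat.mod (Nat.add (Nat.mul 2 d4) (Nat.mul 2 d6)) 4) 2))))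

def gHb8 (d0 d1 d2 d3 d4 d5 d6 d7 : ℕ) : ℕ :=
  Nat.add (Nat.div (Nat.mod (Nat.add (Nat.add (Nat.add (Nat.add d1 (Nat.mul 3 d3)) (Nat.mul 2 d4)) (Nat.mul 3 d5)) d7) 4) 2) (Nat.add (Nat.mul 2 (Nat.div (Nat.mod (Nat.add (Nat.add (Nat.add (Nat.add d0 d1) d4) (Nat.mul 2 d6)) d7) 4) 2)) (Nat.add (Nat.mul 4 (Nat.div (Nat.mod (Nat.add (Nat.add (Nat.add (Nat.add (Nat.add (Nat.add d0 d1) d2) (Nat.mul 2 d3)) d5) (Nat.mul 2 d6)) (Nat.mul 2 d7)) 4) 2)) (Nat.mul 8 (Nat.div (Nat.mod (Nat.add (Nat.add (Nat.add (Nat.add d0 d2) (Nat.mul 2 d3)) d4) (Nat.mul 3 d6)) 4) 2))))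

def aD8 (d0 d1 d2 d3 d4 d5 d6 d7 : ℕ) : ℕ :=
  Nat.add (sqD d0) (Nat.add (sqD d1) (Nat.add (sqD d2) (Nat.add (sqD d3) (Nat.add (sqD d4) (Nat.add (sqD d5) (Nat.add (sqD d6) (sqD d7)))))))

def bD8 (d0 d1 d2 d3 d4 d5 d6 d7 : ℕ) : ℕ :=
  Nat.add (tB d0 d1) (Nat.add (tB d2 d3) (Nat.add (tB d4 d5) (tB d6 d7)))

def keyD8 (d0 d1 d2 d3 d4 d5 d6 d7 : ℕ) : ℕ :=
  Nat.add (gHb8 d0 d1 d2 d3 d4 d5 d6 d7) (Nat.add (Nat.mul 16 (aD8 d0 d1 d2 d3 d4 d5 d6 d7)) (Nat.mul 512 (bD8 d0 d1 d2 d3 d4 d5 d6 d7)))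

def pkD8 (d0 d1 d2 d3 d4 d5 d6 d7 : ℕ) : ℕ :=
  Nat.add d0 (Nat.mul 16 (Nat.add d1 (Nat.mul 16 (Nat.add d2 (Nat.mul 16 (Nat.add d3 (Nat.mul 16 (Nat.add d4 (Nat.mul 16 (Nat.add d5 (Nat.mul 16 (Nat.add d6 (Nat.mul 16 d7)))))))))))))

def leafOK (grp : List (ℕ × BT)) (acc : List ℕ) : Bool :=
  match acc with
  | [d7, d6, d5, d4, d3, d2, d1, d0] =>
    frcN (pkD8 d0 d1 d2 d3 d4 d5 d6 d7) (fun p => frcN (gH8 d0 d1 d2 d3 d4 d5 d6 d7) (fun g => frcN (keyD8 d0 d1 d2 d3 d4 d5 d6 d7) (fun k =>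
        memN p ((grpFind g grp).look k))))
  | _ => false

def patDig (b : Bool) : ℕ := cond b 1 0

def icoPat (pat : List Bool) : Bool :=
  match pat with
  | [b0, b1, b2, b3, b4, b5, b6, b7] =>
    icoD8 (patDig b0) (patDig b1) (patDig b2) (patDig b3) (patDig b4) (patDig b5) (patDig b6) (patDig b7)
  | _ => false

/-- every icosian digit list with `Σ sqD ≤ 16` is in its bucket -/
def enumAll (grp : List (ℕ × BT)) : Bool :=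
  (pats 8).all (fun pat => cond (icoPat pat) (enumP pat 16 [] (leafOK grp)) true)

end Cfsg.Agent.H9.J2
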