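import Cfsg.Agent.H9.J2.Ord
import Cfsg.Agent.H9.J2.Simple

/-!
# The centraliser of a reflection in `J2` is the stabiliser of that reflection (helper9)
-/

set_option autoImplicit false
open Quaternion

namespace Cfsg.Agent.H9.J2

open Q8 Cfsg.Spor MulAction

theorem four_ne_zero_H : (4 : ℍ[ℝ]) ≠ 0 := by
  intro h
  have h4 : (4 : ℍ[ℝ]) = ((4 : ℝ) : ℍ[ℝ]) := by norm_cast
  rw [h4, ← Quaternion.coe_zero, Quaternion.coe_inj] at h
  norm_num at h

theorem qrefl_eV_right (r : V) (s : Fin 3) :
    qrefl r (eV s) = fun t => eV s t - star (r s) * r t := by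
  rw [qrefl_eq (qip_eV s r)]
  rfl

/-- `-(reflection in 2e₁)` is not a reflection -/
theorem F0nu_not_refl : reflV (eV 0) * nu ∉ Refl := by
  intro h
  rw [Refl_eq] at h
  obtain ⟨r, hr, e⟩ := h
  have key : ∀ s : Fin 3, qrefl r (eV s) = qrefl (eV 0) (-(eV s)) := by
    intro s
    have h1 := congrArg (fun f : Equiv.Perm LL => ((f (EL s) : LL) : V)) e
    rw [reflV_apply hr, Equiv.Perm.mul_apply, reflV_apply (eV_MV 0), nu_apply] at h1
    exact h1
  have k1 := key 1
  have k2 := key 2
  rw [qrefl_eV_right, qrefl_eV] at k1 k2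
  have a1 := congrFun k1 1
  have a2 := congrFun k1 2
  have b2 := congrFun k2 2
  simp [eV] at a1 a2 b2
  -- a1 : 2 - star (r 1) * r 1 = -2 ; a2 : star (r 1) * r 2 = 0 ; b2 : 2 - star (r 2) * r 2 = -2
  rcases a2 with a2 | a2
  · rw [a2] at a1
    simp at a1
    have : (4 : ℍ[ℝ]) = 0 := by
      have h2 : (2 : ℍ[ℝ]) + 2 = 4 := by norm_num
      rw [← h2]
      nth_rewrite 1 [a1]
      exact neg_add_cancel 2
    exact four_ne_zero_H this
  · rw [a2] at b2
    simp at b2
    have : (4 : ℍ[ℝ]) = 0 := by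
      have h2 : (2 : ℍ[ℝ]) + 2 = 4 := by norm_num
      rw [← h2]
      nth_rewrite 1 [b2]
      exact neg_add_cancel 2
    exact four_ne_zero_H this

theorem Fk0_eq : Fk 0 = reflV (eV 0) := by
  unfold Fk
  rw [← dV_toV]
  rfl

/-- the projection to `J2` -/
noncomputable def piJ : ↥twoJ2 →* J2 := QuotientGroup.mk' (Subgroup.center ↥twoJ2)

theorem piJ_smul (g : ↥twoJ2) (x : XR) : piJ g • x = g • x := rfl

/-- distinct reflections have distinct images in `J2` -/
theorem piJ_rG_inj {x x' : XR} (h : piJ (rG x) = piJ (rG x')) : x = x' := by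
  have h1 : (rG x)⁻¹ * rG x' ∈ Subgroup.center ↥twoJ2 := QuotientGroup.eq.1 h
  rcases center_cases h1 with h2 | h2
  · have h3 : rG x' = rG x := by
      calc rG x' = rG x * ((rG x)⁻¹ * rG x') := by group
        _ = rG x := by rw [h2, mul_one]
    exact Subtype.ext (congrArg Subtype.val h3).symm
  · exfalso
    have h3 : rG x' = rG x * nuG := by
      calc rG x' = rG x * ((rG x)⁻¹ * rG x') := by group
        _ = rG x * nuG := by rw [h2]
    have h4 : (x' : Equiv.Perm LL) = (x : Equiv.Perm LL) * nu := congrArg Subtype.val h3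
    obtain ⟨g, hg, e⟩ := refl_transitive (f := Fk 0) (f' := (x : Equiv.Perm LL))
      (reflV_mem_Refl (rep_MV 0)) x.2
    have h5 : g⁻¹ * (x' : Equiv.Perm LL) * g⁻¹⁻¹ = Fk 0 * nu := by
      have hc : nu * g = g * nu := by
        have := Subgroup.mem_center_iff.1 nu_center ⟨g, hg⟩
        exact (congrArg Subtype.val this).symm
      rw [h4, ← e]
      calc g⁻¹ * (g * Fk 0 * g⁻¹ * nu) * g⁻¹⁻¹ = Fk 0 * (g⁻¹ * (nu * g)) := by group
        _ = Fk 0 * nu := by rw [hc]; group
    have h6 : g⁻¹ * (x' : Equiv.Perm LL) * g⁻¹⁻¹ ∈ Refl := conj_mem_Refl (inv_mem hg) x'.2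
    rw [h5, Fk0_eq] at h6
    exact F0nu_not_refl h6

theorem piJ_rG_smul (g : ↥twoJ2) (x : XR) : piJ (rG (g • x)) = piJ g * piJ (rG x) * (piJ g)⁻¹ := by
  rw [rG_smul, map_mul, map_mul, map_inv]

/-- the centraliser of the image of a reflection is the stabiliser of the reflection -/
theorem cent_eq_stab (x : XR) :
    Subgroup.centralizer {(piJ (rG x) : J2)} = stabilizer J2 x := by
  ext c
  induction c using QuotientGroup.induction_on with
  | H g =>
    rw [Subgroup.mem_centralizer_iff, mem_stabilizer_iff]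
    constructor
    · intro h
      have h1 := h _ (Set.mem_singleton _)
      have h2 : piJ (rG (g • x)) = piJ (rG x) := by
        rw [piJ_rG_smul]
        show (QuotientGroup.mk g : J2) * piJ (rG x) * (QuotientGroup.mk g : J2)⁻¹ = piJ (rG x)
        rw [← h1]
        group
      exact piJ_rG_inj h2
    · intro h y hy
      rw [Set.mem_singleton_iff] at hy
      subst hy
      have h1 : g • x = x := h
      have h2 := piJ_rG_smul g x
      rw [h1] at h2
      show piJ (rG x) * piJ g = piJ g * piJ (rG x)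
      nth_rewrite 1 [h2]
      group

theorem card_XR : Nat.card XR = 315 := by
  rw [← Refl_ncard]
  exact Nat.card_coe_set_eq Refl

theorem card_stab0 : Nat.card ↥(stabilizer J2 (xk 0)) = 1920 := by
  have h := Nat.card_congr (MulAction.orbitProdStabilizerEquivGroup J2 (xk 0))
  rw [Nat.card_prod, card_J2, Nat.card_coe_set_eq, orbit_univ, Set.ncard_univ, card_XR] at h
  omega

end Cfsg.Agent.H9.J2
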