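import Cfsg.Agent.H9.J2.Lat

/-! generated: the 120 icosian units, 315 line representatives, 5 mirrors (helper9) -/

set_option autoImplicit false
set_option maxRecDepth 100000

namespace Cfsg.Agent.H9.J2

def unitL : List Q8 :=
  [⟨-2, 0, 0, 0, 0, 0, 0, 0⟩,
   ⟨-1, 0, -1, 0, -1, 0, -1, 0⟩,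
   ⟨-1, 0, -1, 0, -1, 0, 1, 0⟩,
   ⟨-1, 0, -1, 0, 1, 0, -1, 0⟩,
   ⟨-1, 0, -1, 0, 1, 0, 1, 0⟩,
   ⟨-1, 0, -1, 1, 0, 0, 0, -1⟩,
   ⟨-1, 0, -1, 1, 0, 0, 0, 1⟩,
   ⟨-1, 0, 0, -1, -1, 1, 0, 0⟩,
   ⟨-1, 0, 0, -1, 1, -1, 0, 0⟩,
   ⟨-1, 0, 0, 0, 0, -1, -1, 1⟩,
   ⟨-1, 0, 0, 0, 0, -1, 1, -1⟩,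
   ⟨-1, 0, 0, 0, 0, 1, -1, 1⟩,
   ⟨-1, 0, 0, 0, 0, 1, 1, -1⟩,
   ⟨-1, 0, 0, 1, -1, 1, 0, 0⟩,
   ⟨-1, 0, 0, 1, 1, -1, 0, 0⟩,
   ⟨-1, 0, 1, -1, 0, 0, 0, -1⟩,
   ⟨-1, 0, 1, -1, 0, 0, 0, 1⟩,
   ⟨-1, 0, 1, 0, -1, 0, -1, 0⟩,
   ⟨-1, 0, 1, 0, -1, 0, 1, 0⟩,
   ⟨-1, 0, 1, 0, 1, 0, -1, 0⟩,
   ⟨-1, 0, 1, 0, 1, 0, 1, 0⟩,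
   ⟨-1, 1, -1, 0, 0, -1, 0, 0⟩,
   ⟨-1, 1, -1, 0, 0, 1, 0, 0⟩,
   ⟨-1, 1, 0, -1, 0, 0, -1, 0⟩,
   ⟨-1, 1, 0, -1, 0, 0, 1, 0⟩,
   ⟨-1, 1, 0, 0, -1, 0, 0, -1⟩,
   ⟨-1, 1, 0, 0, -1, 0, 0, 1⟩,
   ⟨-1, 1, 0, 0, 1, 0, 0, -1⟩,
   ⟨-1, 1, 0, 0, 1, 0, 0, 1⟩,
   ⟨-1, 1, 0, 1, 0, 0, -1, 0⟩,
   ⟨-1, 1, 0, 1, 0, 0, 1, 0⟩,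
   ⟨-1, 1, 1, 0, 0, -1, 0, 0⟩,
   ⟨-1, 1, 1, 0, 0, 1, 0, 0⟩,
   ⟨0, -1, -1, 0, 0, 0, -1, 1⟩,
   ⟨0, -1, -1, 0, 0, 0, 1, -1⟩,
   ⟨0, -1, -1, 1, -1, 0, 0, 0⟩,
   ⟨0, -1, -1, 1, 1, 0, 0, 0⟩,
   ⟨0, -1, 0, 0, -1, 1, -1, 0⟩,
   ⟨0, -1, 0, 0, -1, 1, 1, 0⟩,
   ⟨0, -1, 0, 0, 1, -1, -1, 0⟩,
   ⟨0, -1, 0, 0, 1, -1, 1, 0⟩,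
   ⟨0, -1, 1, -1, -1, 0, 0, 0⟩,
   ⟨0, -1, 1, -1, 1, 0, 0, 0⟩,
   ⟨0, -1, 1, 0, 0, 0, -1, 1⟩,
   ⟨0, -1, 1, 0, 0, 0, 1, -1⟩,
   ⟨0, 0, -2, 0, 0, 0, 0, 0⟩,
   ⟨0, 0, -1, 0, -1, 1, 0, -1⟩,
   ⟨0, 0, -1, 0, -1, 1, 0, 1⟩,
   ⟨0, 0, -1, 0, 1, -1, 0, -1⟩,
   ⟨0, 0, -1, 0, 1, -1, 0, 1⟩,
   ⟨0, 0, -1, 1, 0, -1, -1, 0⟩,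
   ⟨0, 0, -1, 1, 0, -1, 1, 0⟩,
   ⟨0, 0, -1, 1, 0, 1, -1, 0⟩,
   ⟨0, 0, -1, 1, 0, 1, 1, 0⟩,
   ⟨0, 0, 0, -1, -1, 0, -1, 1⟩,
   ⟨0, 0, 0, -1, -1, 0, 1, -1⟩,
   ⟨0, 0, 0, -1, 1, 0, -1, 1⟩,
   ⟨0, 0, 0, -1, 1, 0, 1, -1⟩,
   ⟨0, 0, 0, 0, -2, 0, 0, 0⟩,
   ⟨0, 0, 0, 0, 0, 0, -2, 0⟩,
   ⟨0, 0, 0, 0, 0, 0, 2, 0⟩,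
   ⟨0, 0, 0, 0, 2, 0, 0, 0⟩,
   ⟨0, 0, 0, 1, -1, 0, -1, 1⟩,
   ⟨0, 0, 0, 1, -1, 0, 1, -1⟩,
   ⟨0, 0, 0, 1, 1, 0, -1, 1⟩,
   ⟨0, 0, 0, 1, 1, 0, 1, -1⟩,
   ⟨0, 0, 1, -1, 0, -1, -1, 0⟩,
   ⟨0, 0, 1, -1, 0, -1, 1, 0⟩,
   ⟨0, 0, 1, -1, 0, 1, -1, 0⟩,
   ⟨0, 0, 1, -1, 0, 1, 1, 0⟩,
   ⟨0, 0, 1, 0, -1, 1, 0, -1⟩,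
   ⟨0, 0, 1, 0, -1, 1, 0, 1⟩,
   ⟨0, 0, 1, 0, 1, -1, 0, -1⟩,
   ⟨0, 0, 1, 0, 1, -1, 0, 1⟩,
   ⟨0, 0, 2, 0, 0, 0, 0, 0⟩,
   ⟨0, 1, -1, 0, 0, 0, -1, 1⟩,
   ⟨0, 1, -1, 0, 0, 0, 1, -1⟩,
   ⟨0, 1, -1, 1, -1, 0, 0, 0⟩,
   ⟨0, 1, -1, 1, 1, 0, 0, 0⟩,
   ⟨0, 1, 0, 0, -1, 1, -1, 0⟩,
   ⟨0, 1, 0, 0, -1, 1, 1, 0⟩,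
   ⟨0, 1, 0, 0, 1, -1, -1, 0⟩,
   ⟨0, 1, 0, 0, 1, -1, 1, 0⟩,
   ⟨0, 1, 1, -1, -1, 0, 0, 0⟩,
   ⟨0, 1, 1, -1, 1, 0, 0, 0⟩,
   ⟨0, 1, 1, 0, 0, 0, -1, 1⟩,
   ⟨0, 1, 1, 0, 0, 0, 1, -1⟩,
   ⟨1, -1, -1, 0, 0, -1, 0, 0⟩,
   ⟨1, -1, -1, 0, 0, 1, 0, 0⟩,
   ⟨1, -1, 0, -1, 0, 0, -1, 0⟩,
   ⟨1, -1, 0, -1, 0, 0, 1, 0⟩,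
   ⟨1, -1, 0, 0, -1, 0, 0, -1⟩,
   ⟨1, -1, 0, 0, -1, 0, 0, 1⟩,
   ⟨1, -1, 0, 0, 1, 0, 0, -1⟩,
   ⟨1, -1, 0, 0, 1, 0, 0, 1⟩,
   ⟨1, -1, 0, 1, 0, 0, -1, 0⟩,
   ⟨1, -1, 0, 1, 0, 0, 1, 0⟩,
   ⟨1, -1, 1, 0, 0, -1, 0, 0⟩,
   ⟨1, -1, 1, 0, 0, 1, 0, 0⟩,
   ⟨1, 0, -1, 0, -1, 0, -1, 0⟩,
   ⟨1, 0, -1, 0, -1, 0, 1, 0⟩,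
   ⟨1, 0, -1, 0, 1, 0, -1, 0⟩,
   ⟨1, 0, -1, 0, 1, 0, 1, 0⟩,
   ⟨1, 0, -1, 1, 0, 0, 0, -1⟩,
   ⟨1, 0, -1, 1, 0, 0, 0, 1⟩,
   ⟨1, 0, 0, -1, -1, 1, 0, 0⟩,
   ⟨1, 0, 0, -1, 1, -1, 0, 0⟩,
   ⟨1, 0, 0, 0, 0, -1, -1, 1⟩,
   ⟨1, 0, 0, 0, 0, -1, 1, -1⟩,
   ⟨1, 0, 0, 0, 0, 1, -1, 1⟩,
   ⟨1, 0, 0, 0, 0, 1, 1, -1⟩,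
   ⟨1, 0, 0, 1, -1, 1, 0, 0⟩,
   ⟨1, 0, 0, 1, 1, -1, 0, 0⟩,
   ⟨1, 0, 1, -1, 0, 0, 0, -1⟩,
   ⟨1, 0, 1, -1, 0, 0, 0, 1⟩,
   ⟨1, 0, 1, 0, -1, 0, -1, 0⟩,
   ⟨1, 0, 1, 0, -1, 0, 1, 0⟩,
   ⟨1, 0, 1, 0, 1, 0, -1, 0⟩,
   ⟨1, 0, 1, 0, 1, 0, 1, 0⟩,
   ⟨2, 0, 0, 0, 0, 0, 0, 0⟩]

def repL : List V3 :=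
  [⟨⟨4, 0, 0, 0, 0, 0, 0, 0⟩, ⟨0, 0, 0, 0, 0, 0, 0, 0⟩, ⟨0, 0, 0, 0, 0, 0, 0, 0⟩⟩,
   ⟨⟨2, 0, 0, 0, 0, 0, 0, 0⟩, ⟨0, 1, 0, 1, 0, 1, 0, -1⟩, ⟨1, -1, 1, -1, -1, 1, -1, 1⟩⟩,
   ⟨⟨2, 0, 0, 0, 0, 0, 0, 0⟩, ⟨0, -1, 0, 1, 0, 1, 0, 1⟩, ⟨-1, 1, -1, 1, -1, 1, -1, 1⟩⟩,
   ⟨⟨-2, 0, 0, 0, 0, 0, 0, 0⟩, ⟨0, 1, 0, 1, 0, 1, 0, -1⟩, ⟨1, -1, 1, -1, -1, 1, -1, 1⟩⟩,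
   ⟨⟨2, 0, 0, 0, 0, 0, 0, 0⟩, ⟨0, -1, 0, -1, 0, -1, 0, 1⟩, ⟨1, -1, 1, -1, -1, 1, -1, 1⟩⟩,
   ⟨⟨2, 0, 0, 0, 0, 0, 0, 0⟩, ⟨0, 1, 0, 1, 0, 1, 0, -1⟩, ⟨-1, 1, -1, 1, 1, -1, 1, -1⟩⟩,
   ⟨⟨1, 0, -1, -1, 0, 0, 2, -1⟩, ⟨-1, 0, -1, 1, 0, 0, 0, 1⟩, ⟨-1, 0, -1, 1, 0, 0, 0, 1⟩⟩,
   ⟨⟨-2, 0, 0, 0, 0, 0, 0, 0⟩, ⟨0, -1, 0, 1, 0, 1, 0, 1⟩, ⟨-1, 1, -1, 1, -1, 1, -1, 1⟩⟩,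
   ⟨⟨2, 0, 0, 0, 0, 0, 0, 0⟩, ⟨0, 1, 0, -1, 0, -1, 0, -1⟩, ⟨-1, 1, -1, 1, -1, 1, -1, 1⟩⟩,
   ⟨⟨2, 0, 0, 0, 0, 0, 0, 0⟩, ⟨0, -1, 0, 1, 0, 1, 0, 1⟩, ⟨1, -1, 1, -1, 1, -1, 1, -1⟩⟩,
   ⟨⟨1, 0, 1, 1, 0, 0, -2, 1⟩, ⟨0, 1, 0, 0, -1, 1, -1, 0⟩, ⟨1, -1, 1, 0, 0, 1, 0, 0⟩⟩,
   ⟨⟨-1, 0, -1, -1, 0, 0, 2, -1⟩, ⟨-1, 1, -1, 0, 0, -1, 0, 0⟩, ⟨0, -1, 0, 0, 1, -1, 1, 0⟩⟩,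
   ⟨⟨2, -2, 0, 0, 0, 0, 0, 0⟩, ⟨1, 0, 1, 0, 1, 0, -1, 0⟩, ⟨0, -1, 0, -1, 0, 1, 0, 1⟩⟩,
   ⟨⟨1, 0, 1, 1, 0, 0, 2, -1⟩, ⟨0, 0, 0, 1, 1, 0, -1, 1⟩, ⟨-1, 1, -1, 0, 0, 1, 0, 0⟩⟩,
   ⟨⟨0, 2, 0, 0, 0, 0, 0, 0⟩, ⟨-1, 1, -1, 1, -1, 1, 1, -1⟩, ⟨1, 0, 1, 0, -1, 0, -1, 0⟩⟩,
   ⟨⟨1, 0, -1, -1, 0, 0, -2, 1⟩, ⟨0, -1, 0, 0, -1, 1, 1, 0⟩, ⟨0, 0, 0, 1, -1, 0, -1, 1⟩⟩,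
   ⟨⟨-1, 0, 1, 1, 0, 0, -2, 1⟩, ⟨-1, 0, -1, 1, 0, 0, 0, 1⟩, ⟨-1, 0, -1, 1, 0, 0, 0, 1⟩⟩,
   ⟨⟨1, 0, -1, -1, 0, 0, 2, -1⟩, ⟨1, 0, 1, -1, 0, 0, 0, -1⟩, ⟨-1, 0, -1, 1, 0, 0, 0, 1⟩⟩,
   ⟨⟨1, 0, -1, -1, 0, 0, 2, -1⟩, ⟨-1, 0, -1, 1, 0, 0, 0, 1⟩, ⟨1, 0, 1, -1, 0, 0, 0, -1⟩⟩,
   ⟨⟨0, 0, 0, 0, 0, 0, 0, 0⟩, ⟨-1, 2, -1, 0, -1, 0, -1, 0⟩, ⟨1, -2, 1, 0, 1, 0, 1, 0⟩⟩,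
   ⟨⟨-1, 0, 1, 1, 0, 0, -2, 1⟩, ⟨0, 0, 0, -1, -1, 0, -1, 1⟩, ⟨0, 0, 0, 1, 1, 0, 1, -1⟩⟩,
   ⟨⟨1, 0, -1, -1, 0, 0, -2, 1⟩, ⟨-1, 1, 1, 0, 0, 1, 0, 0⟩, ⟨1, 0, 1, -1, 0, 0, 0, 1⟩⟩,
   ⟨⟨2, -2, 0, 0, 0, 0, 0, 0⟩, ⟨-1, 0, 1, 0, 1, 0, 1, 0⟩, ⟨0, 1, 0, 1, 0, 1, 0, 1⟩⟩,
   ⟨⟨1, 0, 1, 1, 0, 0, 2, -1⟩, ⟨1, 0, -1, 1, 0, 0, 0, -1⟩, ⟨0, -1, 0, 0, -1, 1, -1, 0⟩⟩,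
   ⟨⟨0, 2, 0, 0, 0, 0, 0, 0⟩, ⟨1, -1, -1, 1, -1, 1, -1, 1⟩, ⟨-1, 0, -1, 0, -1, 0, -1, 0⟩⟩,
   ⟨⟨-1, 0, -1, -1, 0, 0, 2, -1⟩, ⟨0, 1, 0, 0, -1, 1, -1, 0⟩, ⟨1, -1, 1, 0, 0, 1, 0, 0⟩⟩,
   ⟨⟨1, 0, 1, 1, 0, 0, -2, 1⟩, ⟨0, -1, 0, 0, 1, -1, 1, 0⟩, ⟨1, -1, 1, 0, 0, 1, 0, 0⟩⟩,
   ⟨⟨1, 0, 1, 1, 0, 0, -2, 1⟩, ⟨0, 1, 0, 0, -1, 1, -1, 0⟩, ⟨-1, 1, -1, 0, 0, -1, 0, 0⟩⟩,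
   ⟨⟨0, 0, 0, 0, 0, 0, 0, 0⟩, ⟨-1, 0, -1, 0, -1, 0, -1, 2⟩, ⟨-1, 0, -1, 2, 1, 0, 1, 0⟩⟩,
   ⟨⟨1, 0, 1, 1, 0, 0, -2, 1⟩, ⟨-1, 1, -1, 0, 0, -1, 0, 0⟩, ⟨0, -1, 0, 0, 1, -1, 1, 0⟩⟩,
   ⟨⟨-1, 0, -1, -1, 0, 0, 2, -1⟩, ⟨1, -1, 1, 0, 0, 1, 0, 0⟩, ⟨0, -1, 0, 0, 1, -1, 1, 0⟩⟩,
   ⟨⟨-1, 0, -1, -1, 0, 0, 2, -1⟩, ⟨-1, 1, -1, 0, 0, -1, 0, 0⟩, ⟨0, 1, 0, 0, -1, 1, -1, 0⟩⟩,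
   ⟨⟨-2, 2, 0, 0, 0, 0, 0, 0⟩, ⟨1, 0, 1, 0, 1, 0, -1, 0⟩, ⟨0, -1, 0, -1, 0, 1, 0, 1⟩⟩,
   ⟨⟨2, -2, 0, 0, 0, 0, 0, 0⟩, ⟨-1, 0, -1, 0, -1, 0, 1, 0⟩, ⟨0, -1, 0, -1, 0, 1, 0, 1⟩⟩,
   ⟨⟨2, -2, 0, 0, 0, 0, 0, 0⟩, ⟨1, 0, 1, 0, 1, 0, -1, 0⟩, ⟨0, 1, 0, 1, 0, -1, 0, -1⟩⟩,
   ⟨⟨1, -1, 0, -1, 0, 0, 1, 0⟩, ⟨1, 0, 0, 0, 0, -1, -1, 1⟩, ⟨-2, 0, -1, 0, -1, 1, 0, 1⟩⟩,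
   ⟨⟨-1, 0, -1, -1, 0, 0, -2, 1⟩, ⟨0, 0, 0, 1, 1, 0, -1, 1⟩, ⟨-1, 1, -1, 0, 0, 1, 0, 0⟩⟩,
   ⟨⟨1, 0, 1, 1, 0, 0, 2, -1⟩, ⟨0, 0, 0, -1, -1, 0, 1, -1⟩, ⟨-1, 1, -1, 0, 0, 1, 0, 0⟩⟩,
   ⟨⟨1, 0, 1, 1, 0, 0, 2, -1⟩, ⟨0, 0, 0, 1, 1, 0, -1, 1⟩, ⟨1, -1, 1, 0, 0, -1, 0, 0⟩⟩,
   ⟨⟨0, 1, 1, 1, -1, 0, 0, 0⟩, ⟨-1, 0, 0, 0, 0, 1, -1, 1⟩, ⟨2, -1, 1, -1, 1, 0, 0, 0⟩⟩,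
   ⟨⟨0, -2, 0, 0, 0, 0, 0, 0⟩, ⟨-1, 1, -1, 1, -1, 1, 1, -1⟩, ⟨1, 0, 1, 0, -1, 0, -1, 0⟩⟩,
   ⟨⟨0, 2, 0, 0, 0, 0, 0, 0⟩, ⟨1, -1, 1, -1, 1, -1, -1, 1⟩, ⟨1, 0, 1, 0, -1, 0, -1, 0⟩⟩,
   ⟨⟨0, 2, 0, 0, 0, 0, 0, 0⟩, ⟨-1, 1, -1, 1, -1, 1, 1, -1⟩, ⟨-1, 0, -1, 0, 1, 0, 1, 0⟩⟩,
   ⟨⟨0, 1, -1, 0, 0, 0, 1, -1⟩, ⟨-2, 0, -1, 1, 0, 1, 1, 0⟩, ⟨1, 0, 0, 1, 1, -1, 0, 0⟩⟩,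
   ⟨⟨-1, 0, 1, 1, 0, 0, 2, -1⟩, ⟨0, -1, 0, 0, -1, 1, 1, 0⟩, ⟨0, 0, 0, 1, -1, 0, -1, 1⟩⟩,
   ⟨⟨1, 0, -1, -1, 0, 0, -2, 1⟩, ⟨0, 1, 0, 0, 1, -1, -1, 0⟩, ⟨0, 0, 0, 1, -1, 0, -1, 1⟩⟩,
   ⟨⟨1, 0, -1, -1, 0, 0, -2, 1⟩, ⟨0, -1, 0, 0, -1, 1, 1, 0⟩, ⟨0, 0, 0, -1, 1, 0, 1, -1⟩⟩,
   ⟨⟨1, -1, 0, 0, 1, 0, -2, 1⟩, ⟨1, 1, 0, 0, -1, 0, 0, -1⟩, ⟨-1, 0, 0, 1, -1, 1, 0, 0⟩⟩,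
   ⟨⟨0, 1, -1, -1, 1, 0, 0, 0⟩, ⟨0, 1, 1, -1, -1, 0, 0, 0⟩, ⟨1, -1, 2, -1, 0, 0, 1, 0⟩⟩,
   ⟨⟨1, -1, 0, -1, 0, 0, 1, 0⟩, ⟨1, 0, 2, 0, 0, 1, 1, -1⟩, ⟨0, 0, 1, 0, -1, 1, 0, 1⟩⟩,
   ⟨⟨1, -1, 0, 0, -1, 0, 2, -1⟩, ⟨0, 1, -1, 0, 0, 0, -1, -1⟩, ⟨1, -1, 0, 0, 1, 0, 0, -1⟩⟩,
   ⟨⟨0, 1, -1, 0, 0, 0, 1, -1⟩, ⟨0, 0, -1, 1, 0, 1, -1, 0⟩, ⟨1, 0, 0, -1, -1, 1, -2, 0⟩⟩,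
   ⟨⟨0, 0, 0, 0, 0, 0, 0, 0⟩, ⟨1, -2, 1, 0, 1, 0, 1, 0⟩, ⟨1, -2, 1, 0, 1, 0, 1, 0⟩⟩,
   ⟨⟨-2, 0, 0, 0, 0, 0, 0, 0⟩, ⟨-1, 1, -1, 1, -1, 1, -1, 1⟩, ⟨0, -1, 0, 1, 0, 1, 0, 1⟩⟩,
   ⟨⟨1, 0, -1, -1, 0, 0, 2, -1⟩, ⟨0, 0, 0, -1, -1, 0, -1, 1⟩, ⟨0, 0, 0, 1, 1, 0, 1, -1⟩⟩,
   ⟨⟨-1, 0, 1, 1, 0, 0, -2, 1⟩, ⟨0, 0, 0, 1, 1, 0, 1, -1⟩, ⟨0, 0, 0, 1, 1, 0, 1, -1⟩⟩,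
   ⟨⟨-1, 0, 1, 1, 0, 0, -2, 1⟩, ⟨0, 0, 0, -1, -1, 0, -1, 1⟩, ⟨0, 0, 0, -1, -1, 0, -1, 1⟩⟩,
   ⟨⟨-1, 0, 1, 1, 0, 0, 2, -1⟩, ⟨-1, 1, 1, 0, 0, 1, 0, 0⟩, ⟨1, 0, 1, -1, 0, 0, 0, 1⟩⟩,
   ⟨⟨1, 0, -1, -1, 0, 0, -2, 1⟩, ⟨1, -1, -1, 0, 0, -1, 0, 0⟩, ⟨1, 0, 1, -1, 0, 0, 0, 1⟩⟩,
   ⟨⟨1, 0, -1, -1, 0, 0, -2, 1⟩, ⟨-1, 1, 1, 0, 0, 1, 0, 0⟩, ⟨-1, 0, -1, 1, 0, 0, 0, -1⟩⟩,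
   ⟨⟨0, 1, -1, -1, -1, 0, 0, 0⟩, ⟨-1, 1, 0, 1, 0, 0, -1, 0⟩, ⟨-1, 1, -2, 1, 0, 0, 1, 0⟩⟩,
   ⟨⟨-2, 2, 0, 0, 0, 0, 0, 0⟩, ⟨-1, 0, 1, 0, 1, 0, 1, 0⟩, ⟨0, 1, 0, 1, 0, 1, 0, 1⟩⟩,
   ⟨⟨2, -2, 0, 0, 0, 0, 0, 0⟩, ⟨1, 0, -1, 0, -1, 0, -1, 0⟩, ⟨0, 1, 0, 1, 0, 1, 0, 1⟩⟩,
   ⟨⟨2, -2, 0, 0, 0, 0, 0, 0⟩, ⟨-1, 0, 1, 0, 1, 0, 1, 0⟩, ⟨0, -1, 0, -1, 0, -1, 0, -1⟩⟩,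
   ⟨⟨1, -1, 0, 1, 0, 0, -1, 0⟩, ⟨-1, 1, 0, -1, 0, 0, 1, 0⟩, ⟨1, 0, 2, 0, 0, 1, -1, 1⟩⟩,
   ⟨⟨-1, 0, -1, -1, 0, 0, -2, 1⟩, ⟨1, 0, -1, 1, 0, 0, 0, -1⟩, ⟨0, -1, 0, 0, -1, 1, -1, 0⟩⟩,
   ⟨⟨1, 0, 1, 1, 0, 0, 2, -1⟩, ⟨-1, 0, 1, -1, 0, 0, 0, 1⟩, ⟨0, -1, 0, 0, -1, 1, -1, 0⟩⟩,
   ⟨⟨1, 0, 1, 1, 0, 0, 2, -1⟩, ⟨1, 0, -1, 1, 0, 0, 0, -1⟩, ⟨0, 1, 0, 0, 1, -1, 1, 0⟩⟩,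
   ⟨⟨1, -1, 0, 0, 1, 0, 2, -1⟩, ⟨0, -1, -1, 0, 0, 0, 1, 1⟩, ⟨0, -1, 1, 0, 0, 0, -1, 1⟩⟩,
   ⟨⟨0, -2, 0, 0, 0, 0, 0, 0⟩, ⟨1, -1, -1, 1, -1, 1, -1, 1⟩, ⟨-1, 0, -1, 0, -1, 0, -1, 0⟩⟩,
   ⟨⟨0, 2, 0, 0, 0, 0, 0, 0⟩, ⟨-1, 1, 1, -1, 1, -1, 1, -1⟩, ⟨-1, 0, -1, 0, -1, 0, -1, 0⟩⟩,
   ⟨⟨0, 2, 0, 0, 0, 0, 0, 0⟩, ⟨1, -1, -1, 1, -1, 1, -1, 1⟩, ⟨1, 0, 1, 0, 1, 0, 1, 0⟩⟩,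
   ⟨⟨0, 1, 1, 0, 0, 0, -1, 1⟩, ⟨1, 0, 0, 1, -1, 1, -2, 0⟩, ⟨0, -1, -1, 0, 0, 0, 1, -1⟩⟩,
   ⟨⟨1, -1, 0, 1, 0, 0, -1, 0⟩, ⟨1, -1, 0, 1, 2, 0, 1, 0⟩, ⟨-1, 0, 0, 0, 0, 1, -1, 1⟩⟩,
   ⟨⟨0, 1, 1, 1, 1, 0, 0, 0⟩, ⟨0, 0, -1, 0, 1, -1, 0, 1⟩, ⟨-2, 1, -1, 1, 1, 0, 0, 0⟩⟩,
   ⟨⟨0, 1, 1, 0, 0, 0, -1, 1⟩, ⟨-1, 0, 0, 1, -1, 1, 0, 0⟩, ⟨0, 1, -1, 0, -2, 0, -1, 1⟩⟩,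
   ⟨⟨1, -1, 0, 0, -1, 0, -2, 1⟩, ⟨-1, -1, 0, 0, -1, 0, 0, 1⟩, ⟨0, 0, -1, 1, 0, -1, 1, 0⟩⟩,
   ⟨⟨0, 0, 0, 0, 0, 0, 0, 0⟩, ⟨1, 0, 1, 0, 1, 0, 1, -2⟩, ⟨-1, 0, -1, 2, 1, 0, 1, 0⟩⟩,
   ⟨⟨-1, 1, 0, 0, 1, 0, 2, -1⟩, ⟨1, 0, 0, -1, -1, -1, 0, 0⟩, ⟨0, -1, 1, 0, 0, 0, 1, -1⟩⟩,
   ⟨⟨-1, 1, 0, -1, 0, 0, 1, 0⟩, ⟨2, 0, 1, 0, -1, 1, 0, -1⟩, ⟨0, -1, 1, -1, -1, 0, 0, 0⟩⟩,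
   ⟨⟨0, -1, -1, -1, -1, 0, 0, 0⟩, ⟨-1, 1, 0, -1, 0, 0, -1, 0⟩, ⟨1, 0, 0, 0, 2, -1, 1, -1⟩⟩,
   ⟨⟨0, -1, -1, 0, 0, 0, 1, -1⟩, ⟨-1, 1, 0, 0, 1, 0, 0, -1⟩, ⟨2, 0, 1, -1, 0, 1, -1, 0⟩⟩,
   ⟨⟨-1, 1, 0, -1, 0, 0, 1, 0⟩, ⟨0, 0, 1, 0, 1, -1, 0, 1⟩, ⟨0, -1, 1, -1, 1, 0, 2, 0⟩⟩,
   ⟨⟨1, -1, 0, 1, 0, 0, 1, 0⟩, ⟨0, 1, -1, 1, -1, 0, 0, 0⟩, ⟨-1, 0, -2, 0, 0, 1, -1, 1⟩⟩,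
   ⟨⟨0, 0, 0, 0, 0, 0, 0, 0⟩, ⟨0, 0, 0, 0, 0, 0, 0, 0⟩, ⟨2, 0, 2, 0, -2, 0, -2, 0⟩⟩,
   ⟨⟨1, -1, 0, -1, 0, 0, -1, 0⟩, ⟨1, -1, 0, -1, 0, 0, -1, 0⟩, ⟨-1, 1, 0, 1, -2, 0, -1, 0⟩⟩,
   ⟨⟨-1, 1, 0, 1, 0, 0, -1, 0⟩, ⟨1, 0, 0, 0, 0, -1, -1, 1⟩, ⟨-2, 0, -1, 0, -1, 1, 0, 1⟩⟩,
   ⟨⟨1, -1, 0, -1, 0, 0, 1, 0⟩, ⟨-1, 0, 0, 0, 0, 1, 1, -1⟩, ⟨-2, 0, -1, 0, -1, 1, 0, 1⟩⟩,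
   ⟨⟨1, -1, 0, -1, 0, 0, 1, 0⟩, ⟨1, 0, 0, 0, 0, -1, -1, 1⟩, ⟨2, 0, 1, 0, 1, -1, 0, -1⟩⟩,
   ⟨⟨0, 0, 0, -1, -1, 0, -1, 1⟩, ⟨0, 0, 0, -1, -1, 0, -1, 1⟩, ⟨1, -2, 1, -1, 0, 0, 0, 1⟩⟩,
   ⟨⟨-1, 1, 0, 0, -1, 0, -2, 1⟩, ⟨0, 0, -1, -1, 0, -1, -1, 0⟩, ⟨0, 0, -1, 1, 0, 1, -1, 0⟩⟩,
   ⟨⟨0, 0, 0, 0, 0, 0, 0, 0⟩, ⟨-1, 0, 1, 0, -1, 2, 1, 0⟩, ⟨1, 0, 1, -2, 1, 0, 1, 0⟩⟩,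
   ⟨⟨1, -1, 0, 1, 0, 0, 1, 0⟩, ⟨0, -1, 1, -1, -1, 0, 2, 0⟩, ⟨1, 0, 0, 0, 0, 1, -1, 1⟩⟩,
   ⟨⟨0, 1, 1, 0, 0, 0, 1, -1⟩, ⟨0, -1, -1, 0, 0, 0, -1, 1⟩, ⟨0, -1, 1, 0, -2, 0, -1, 1⟩⟩,
   ⟨⟨0, -1, -1, -1, 1, 0, 0, 0⟩, ⟨-1, 0, 0, 0, 0, 1, -1, 1⟩, ⟨2, -1, 1, -1, 1, 0, 0, 0⟩⟩,
   ⟨⟨0, 1, 1, 1, -1, 0, 0, 0⟩, ⟨1, 0, 0, 0, 0, -1, 1, -1⟩, ⟨2, -1, 1, -1, 1, 0, 0, 0⟩⟩,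
   ⟨⟨-1, 2, 1, 0, -1, 0, 1, 0⟩, ⟨-1, 0, -1, 0, -1, 0, -1, 2⟩, ⟨0, 0, 0, 0, 0, 0, 0, 0⟩⟩,
   ⟨⟨0, -1, -1, 0, 0, 0, 1, -1⟩, ⟨-1, 1, -2, 0, -1, 0, 0, -1⟩, ⟨0, 0, -1, 1, 0, -1, -1, 0⟩⟩,
   ⟨⟨0, 0, 0, 0, 0, 0, 0, 0⟩, ⟨2, 0, 2, 0, 2, 0, -2, 0⟩, ⟨0, 0, 0, 0, 0, 0, 0, 0⟩⟩,
   ⟨⟨0, 1, 1, 0, 0, 0, 1, -1⟩, ⟨0, -1, 1, 0, 2, 0, -1, 1⟩, ⟨0, 1, 1, 0, 0, 0, 1, -1⟩⟩,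
   ⟨⟨0, 1, -1, 0, 0, 0, -1, 1⟩, ⟨-1, 0, 0, 1, -1, 1, 2, 0⟩, ⟨1, -1, 0, 0, 1, 0, 0, 1⟩⟩,
   ⟨⟨0, -1, 1, 0, 0, 0, -1, 1⟩, ⟨-2, 0, -1, 1, 0, 1, 1, 0⟩, ⟨1, 0, 0, 1, 1, -1, 0, 0⟩⟩,
   ⟨⟨0, 1, -1, 0, 0, 0, 1, -1⟩, ⟨2, 0, 1, -1, 0, -1, -1, 0⟩, ⟨1, 0, 0, 1, 1, -1, 0, 0⟩⟩,
   ⟨⟨0, 1, -1, 0, 0, 0, 1, -1⟩, ⟨-2, 0, -1, 1, 0, 1, 1, 0⟩, ⟨-1, 0, 0, -1, -1, 1, 0, 0⟩⟩,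
   ⟨⟨0, 0, 0, 1, 1, 0, 1, -1⟩, ⟨-1, 2, -1, 1, 0, 0, 0, -1⟩, ⟨0, 0, 0, 1, 1, 0, 1, -1⟩⟩,
   ⟨⟨0, -1, 1, 1, 1, 0, 0, 0⟩, ⟨0, 0, 1, 0, -1, 1, 0, 1⟩, ⟨0, 0, 1, 0, 1, -1, 2, -1⟩⟩,
   ⟨⟨1, -1, 0, -1, 0, 0, -1, 0⟩, ⟨-1, 1, 0, 1, 2, 0, -1, 0⟩, ⟨-1, 1, 0, 1, 0, 0, 1, 0⟩⟩,
   ⟨⟨0, 0, 0, 0, 0, 0, 0, 0⟩, ⟨1, 0, -1, 0, -1, 0, 1, -2⟩, ⟨-1, 0, -1, 0, -1, 2, -1, 0⟩⟩,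
   ⟨⟨0, 1, -1, 0, 0, 0, -1, 1⟩, ⟨1, 0, 0, 1, -1, 1, 0, 0⟩, ⟨-1, 1, -2, 0, 1, 0, 0, -1⟩⟩,
   ⟨⟨-1, 1, 0, 0, -1, 0, 2, -1⟩, ⟨1, 1, 0, 0, -1, 0, 0, -1⟩, ⟨-1, 0, 0, 1, -1, 1, 0, 0⟩⟩,
   ⟨⟨1, -1, 0, 0, 1, 0, -2, 1⟩, ⟨1, 1, 0, 0, -1, 0, 0, -1⟩, ⟨1, 0, 0, -1, 1, -1, 0, 0⟩⟩,
   ⟨⟨1, -2, -1, 0, 1, 0, -1, 0⟩, ⟨0, 0, 0, 0, 0, 0, 0, 0⟩, ⟨-1, 0, -1, 2, 1, 0, 1, 0⟩⟩,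
   ⟨⟨0, 1, -1, -1, 1, 0, 0, 0⟩, ⟨0, -1, -1, 1, 1, 0, 0, 0⟩, ⟨1, -1, 2, -1, 0, 0, 1, 0⟩⟩,
   ⟨⟨0, 1, -1, -1, 1, 0, 0, 0⟩, ⟨0, 1, 1, -1, -1, 0, 0, 0⟩, ⟨-1, 1, -2, 1, 0, 0, -1, 0⟩⟩,
   ⟨⟨-1, 1, 0, 1, 0, 0, -1, 0⟩, ⟨1, 0, 2, 0, 0, 1, 1, -1⟩, ⟨0, 0, 1, 0, -1, 1, 0, 1⟩⟩,
   ⟨⟨1, -1, 0, -1, 0, 0, 1, 0⟩, ⟨-1, 0, -2, 0, 0, -1, -1, 1⟩, ⟨0, 0, 1, 0, -1, 1, 0, 1⟩⟩,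
   ⟨⟨1, -1, 0, -1, 0, 0, 1, 0⟩, ⟨1, 0, 2, 0, 0, 1, 1, -1⟩, ⟨0, 0, -1, 0, 1, -1, 0, -1⟩⟩,
   ⟨⟨2, 0, 0, 0, 0, 0, 0, 0⟩, ⟨1, 0, 1, -2, -1, 0, 1, 0⟩, ⟨0, 0, 2, 0, 0, 0, 0, 0⟩⟩,
   ⟨⟨1, -1, 0, 0, -1, 0, 2, -1⟩, ⟨0, -1, 1, 0, 0, 0, 1, 1⟩, ⟨1, -1, 0, 0, 1, 0, 0, -1⟩⟩,
   ⟨⟨1, -1, 0, 0, -1, 0, 2, -1⟩, ⟨0, 1, -1, 0, 0, 0, -1, -1⟩, ⟨-1, 1, 0, 0, -1, 0, 0, 1⟩⟩,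
   ⟨⟨0, -1, 1, 0, 0, 0, -1, 1⟩, ⟨0, 0, -1, 1, 0, 1, -1, 0⟩, ⟨1, 0, 0, -1, -1, 1, -2, 0⟩⟩,
   ⟨⟨0, 1, -1, 0, 0, 0, 1, -1⟩, ⟨0, 0, 1, -1, 0, -1, 1, 0⟩, ⟨1, 0, 0, -1, -1, 1, -2, 0⟩⟩,
   ⟨⟨0, 1, -1, 0, 0, 0, 1, -1⟩, ⟨0, 0, -1, 1, 0, 1, -1, 0⟩, ⟨-1, 0, 0, 1, 1, -1, 2, 0⟩⟩,
   ⟨⟨2, 0, 0, 0, 0, 0, 0, 0⟩, ⟨0, 0, 0, 0, 0, 0, -2, 0⟩, ⟨1, 0, -1, 0, 1, 0, 1, -2⟩⟩,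
   ⟨⟨0, 0, 0, 1, 1, 0, 1, -1⟩, ⟨2, -1, 0, 0, 1, -1, 1, 0⟩, ⟨-1, -1, 1, 0, 0, 1, 0, 0⟩⟩,
   ⟨⟨2, 0, 0, 0, 0, 0, 0, 0⟩, ⟨-1, 1, -1, 1, -1, 1, -1, 1⟩, ⟨0, -1, 0, 1, 0, 1, 0, 1⟩⟩,
   ⟨⟨-2, 0, 0, 0, 0, 0, 0, 0⟩, ⟨1, -1, 1, -1, 1, -1, 1, -1⟩, ⟨0, -1, 0, 1, 0, 1, 0, 1⟩⟩,
   ⟨⟨-2, 0, 0, 0, 0, 0, 0, 0⟩, ⟨-1, 1, -1, 1, -1, 1, -1, 1⟩, ⟨0, 1, 0, -1, 0, -1, 0, -1⟩⟩,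
   ⟨⟨-1, 1, 0, 0, -1, 0, 2, -1⟩, ⟨-1, 0, 0, -1, -1, -1, 0, 0⟩, ⟨1, -1, 0, 0, -1, 0, 0, 1⟩⟩,
   ⟨⟨1, -1, 0, -1, 0, 0, -1, 0⟩, ⟨2, 0, -1, 0, 1, -1, 0, -1⟩, ⟨0, 0, -1, 0, -1, 1, 0, 1⟩⟩,
   ⟨⟨-1, 2, -1, 0, -1, 0, -1, 0⟩, ⟨-1, 2, -1, 0, -1, 0, -1, 0⟩, ⟨0, 0, 0, 0, 0, 0, 0, 0⟩⟩,
   ⟨⟨-1, 1, 0, 1, 0, 0, -1, 0⟩, ⟨0, 1, 1, -1, 1, 0, 0, 0⟩, ⟨-1, 1, 0, 1, 2, 0, 1, 0⟩⟩,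
   ⟨⟨-1, 1, 0, -1, 0, 0, 1, 0⟩, ⟨-1, 1, 0, -1, 0, 0, 1, 0⟩, ⟨1, 0, 2, 0, 0, 1, -1, 1⟩⟩,
   ⟨⟨1, -1, 0, 1, 0, 0, -1, 0⟩, ⟨1, -1, 0, 1, 0, 0, -1, 0⟩, ⟨1, 0, 2, 0, 0, 1, -1, 1⟩⟩,
   ⟨⟨0, 0, 0, 1, -1, 0, 1, -1⟩, ⟨-1, 1, -1, 0, 0, -1, 0, 0⟩, ⟨-1, 1, -1, 2, 0, 1, 0, 0⟩⟩,
   ⟨⟨0, -1, -1, -1, 1, 0, 0, 0⟩, ⟨0, 1, -1, 1, 1, 0, 0, 0⟩, ⟨-1, 0, 0, 0, 2, -1, 1, -1⟩⟩,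
   ⟨⟨0, 1, 1, 0, 0, 0, 1, -1⟩, ⟨0, 0, -1, 1, 0, 1, 1, 0⟩, ⟨2, 0, 1, -1, 0, -1, 1, 0⟩⟩,
   ⟨⟨1, -2, 1, 0, 1, 0, 1, 0⟩, ⟨0, 0, 0, 0, 0, 0, 0, 0⟩, ⟨1, -2, 1, 0, 1, 0, 1, 0⟩⟩,
   ⟨⟨0, -1, 1, 0, 0, 0, -1, 1⟩, ⟨0, -1, -1, 0, -2, 0, -1, 1⟩, ⟨1, -1, 0, 0, -1, 0, 0, -1⟩⟩,
   ⟨⟨0, -1, -1, 0, 0, 0, 1, -1⟩, ⟨1, 0, 0, 1, -1, 1, -2, 0⟩, ⟨0, -1, -1, 0, 0, 0, 1, -1⟩⟩,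
   ⟨⟨0, 1, 1, 0, 0, 0, -1, 1⟩, ⟨1, 0, 0, 1, -1, 1, -2, 0⟩, ⟨0, 1, 1, 0, 0, 0, -1, 1⟩⟩,
   ⟨⟨0, 0, 0, -1, 1, 0, -1, 1⟩, ⟨0, -1, 0, 0, -1, 1, -1, 2⟩, ⟨0, -1, 0, 0, 1, -1, 1, 0⟩⟩,
   ⟨⟨1, -1, 0, 1, 0, 0, -1, 0⟩, ⟨-1, 1, 0, -1, -2, 0, -1, 0⟩, ⟨-1, 0, 0, 0, 0, 1, -1, 1⟩⟩,
   ⟨⟨1, -1, 0, 1, 0, 0, -1, 0⟩, ⟨1, -1, 0, 1, 2, 0, 1, 0⟩, ⟨1, 0, 0, 0, 0, -1, 1, -1⟩⟩,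
   ⟨⟨2, 0, 0, 0, 0, 0, 0, 0⟩, ⟨1, 0, -1, 0, 1, -2, 1, 0⟩, ⟨-2, 0, 0, 0, 0, 0, 0, 0⟩⟩,
   ⟨⟨0, 1, 1, 0, 0, 0, -1, 1⟩, ⟨1, 0, 0, -1, 1, -1, 0, 0⟩, ⟨0, 1, -1, 0, -2, 0, -1, 1⟩⟩,
   ⟨⟨0, 1, 1, 0, 0, 0, -1, 1⟩, ⟨-1, 0, 0, 1, -1, 1, 0, 0⟩, ⟨0, -1, 1, 0, 2, 0, 1, -1⟩⟩,
   ⟨⟨2, 0, 0, 0, 0, 0, 0, 0⟩, ⟨-2, 0, 0, 0, 0, 0, 0, 0⟩, ⟨1, 0, -1, 0, 1, -2, 1, 0⟩⟩,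
   ⟨⟨0, 0, 0, -1, 1, 0, -1, 1⟩, ⟨1, 0, 1, -1, 0, 0, 2, -1⟩, ⟨-1, 0, 1, 1, 0, 0, 0, 1⟩⟩,
   ⟨⟨1, -1, 0, 0, -1, 0, -2, 1⟩, ⟨1, 0, 0, -1, -1, -1, 0, 0⟩, ⟨0, -1, 1, 0, 0, 0, 1, -1⟩⟩,
   ⟨⟨-1, 1, 0, 0, 1, 0, 2, -1⟩, ⟨-1, 0, 0, 1, 1, 1, 0, 0⟩, ⟨0, -1, 1, 0, 0, 0, 1, -1⟩⟩,
   ⟨⟨-1, 1, 0, 0, 1, 0, 2, -1⟩, ⟨1, 0, 0, -1, -1, -1, 0, 0⟩, ⟨0, 1, -1, 0, 0, 0, -1, 1⟩⟩,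
   ⟨⟨-1, 1, 0, -1, 0, 0, 1, 0⟩, ⟨2, 0, 1, 0, -1, 1, 0, -1⟩, ⟨0, 1, -1, 1, 1, 0, 0, 0⟩⟩,
   ⟨⟨0, 1, 1, 1, 1, 0, 0, 0⟩, ⟨-1, 1, 0, -1, 0, 0, -1, 0⟩, ⟨1, 0, 0, 0, 2, -1, 1, -1⟩⟩,
   ⟨⟨0, -1, -1, -1, -1, 0, 0, 0⟩, ⟨1, -1, 0, 1, 0, 0, 1, 0⟩, ⟨1, 0, 0, 0, 2, -1, 1, -1⟩⟩,
   ⟨⟨0, -1, -1, -1, -1, 0, 0, 0⟩, ⟨-1, 1, 0, -1, 0, 0, -1, 0⟩, ⟨-1, 0, 0, 0, -2, 1, -1, 1⟩⟩,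
   ⟨⟨0, -1, -1, 0, 0, 0, 1, -1⟩, ⟨1, -1, 0, 0, -1, 0, 0, 1⟩, ⟨2, 0, 1, -1, 0, 1, -1, 0⟩⟩,
   ⟨⟨1, -1, 0, 1, 0, 0, -1, 0⟩, ⟨0, 0, 1, 0, 1, -1, 0, 1⟩, ⟨0, -1, 1, -1, 1, 0, 2, 0⟩⟩,
   ⟨⟨-1, 1, 0, -1, 0, 0, 1, 0⟩, ⟨0, 0, 1, 0, 1, -1, 0, 1⟩, ⟨0, 1, -1, 1, -1, 0, -2, 0⟩⟩,
   ⟨⟨-1, 1, 0, 0, -1, 0, 2, -1⟩, ⟨1, 0, 0, -1, 1, -1, 0, 0⟩, ⟨-1, -1, 0, 0, 1, 0, 0, 1⟩⟩,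
   ⟨⟨1, -1, 0, -1, 0, 0, -1, 0⟩, ⟨-1, 1, 0, 1, 0, 0, 1, 0⟩, ⟨-1, 1, 0, 1, -2, 0, -1, 0⟩⟩,
   ⟨⟨-1, 1, 0, 0, -1, 0, -2, 1⟩, ⟨0, -1, 1, 0, 0, 0, -1, 1⟩, ⟨0, -1, -1, 0, 0, 0, 1, 1⟩⟩,
   ⟨⟨1, 0, 0, 0, 0, 1, -1, 1⟩, ⟨-1, 1, 0, -1, -2, 0, 1, 0⟩, ⟨0, -1, 1, -1, 1, 0, 0, 0⟩⟩,
   ⟨⟨2, -1, -1, 0, 0, 0, 1, 1⟩, ⟨0, 1, 1, 0, 0, 0, 1, -1⟩, ⟨0, -1, -1, 0, 0, 0, -1, 1⟩⟩,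
   ⟨⟨-1, 0, 1, -1, 0, 0, 0, -1⟩, ⟨1, -1, -1, 0, 0, 1, -2, 0⟩, ⟨0, 1, 0, 0, -1, 1, -1, 0⟩⟩,
   ⟨⟨-1, 0, 1, 0, -1, 0, 1, 0⟩, ⟨0, 1, 0, 1, 0, 1, -2, 1⟩, ⟨-1, 0, -1, 0, 1, 0, 1, 0⟩⟩,
   ⟨⟨1, -1, 0, 0, 1, 0, 2, -1⟩, ⟨0, 0, -1, -1, 0, -1, -1, 0⟩, ⟨0, 0, -1, 1, 0, 1, -1, 0⟩⟩,
   ⟨⟨-1, 1, 0, 0, -1, 0, -2, 1⟩, ⟨0, 0, 1, 1, 0, 1, 1, 0⟩, ⟨0, 0, -1, 1, 0, 1, -1, 0⟩⟩,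
   ⟨⟨0, -1, 1, 0, 0, 0, -1, 1⟩, ⟨-1, 1, 0, 0, 1, 0, 0, 1⟩, ⟨0, 1, 1, 0, 2, 0, 1, -1⟩⟩,
   ⟨⟨0, 0, 0, 0, 0, 0, 0, 0⟩, ⟨1, 0, -1, 0, 1, -2, -1, 0⟩, ⟨1, 0, 1, -2, 1, 0, 1, 0⟩⟩,
   ⟨⟨-1, 1, 0, -1, 0, 0, -1, 0⟩, ⟨0, -1, 1, -1, -1, 0, 2, 0⟩, ⟨1, 0, 0, 0, 0, 1, -1, 1⟩⟩,
   ⟨⟨1, -1, 0, 1, 0, 0, 1, 0⟩, ⟨0, 1, -1, 1, 1, 0, -2, 0⟩, ⟨1, 0, 0, 0, 0, 1, -1, 1⟩⟩,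
   ⟨⟨1, -2, 0, 1, 1, -1, 0, 0⟩, ⟨0, 0, 1, -1, 0, 1, 1, 0⟩, ⟨0, 0, 1, -1, 0, 1, 1, 0⟩⟩,
   ⟨⟨1, -1, 1, 0, 0, 1, 0, 0⟩, ⟨1, 0, 1, 1, 0, 0, -2, 1⟩, ⟨0, -1, 0, 0, 1, -1, 1, 0⟩⟩,
   ⟨⟨-1, 1, 0, -1, 0, 0, 1, 0⟩, ⟨0, 1, -1, 1, -1, 0, -2, 0⟩, ⟨0, 0, -1, 0, -1, 1, 0, -1⟩⟩,
   ⟨⟨1, 0, 0, 0, 0, -1, 1, -1⟩, ⟨1, -1, 0, 1, 2, 0, 1, 0⟩, ⟨-1, 1, 0, -1, 0, 0, 1, 0⟩⟩,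
   ⟨⟨1, -2, -1, 0, 1, 0, -1, 0⟩, ⟨-1, 0, -1, 0, -1, 0, -1, 2⟩, ⟨0, 0, 0, 0, 0, 0, 0, 0⟩⟩,
   ⟨⟨0, 1, 1, 0, 0, 0, -1, 1⟩, ⟨-1, 1, -2, 0, -1, 0, 0, -1⟩, ⟨0, 0, -1, 1, 0, -1, -1, 0⟩⟩,
   ⟨⟨0, -1, -1, -1, 1, 0, 0, 0⟩, ⟨-2, 1, -1, 1, -1, 0, 0, 0⟩, ⟨1, 0, 0, 0, 0, -1, 1, -1⟩⟩,
   ⟨⟨0, 1, 1, 0, 0, 0, 1, -1⟩, ⟨0, -1, 1, 0, 2, 0, -1, 1⟩, ⟨0, -1, -1, 0, 0, 0, -1, 1⟩⟩,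
   ⟨⟨0, -1, 1, 1, 1, 0, 0, 0⟩, ⟨-1, 1, -2, 1, 0, 0, 1, 0⟩, ⟨-1, 1, 0, 1, 0, 0, -1, 0⟩⟩,
   ⟨⟨-1, 0, 1, -1, 0, 0, 0, -1⟩, ⟨1, -1, 1, 0, 0, 1, 0, 0⟩, ⟨0, 1, 2, 0, -1, 1, 1, 0⟩⟩,
   ⟨⟨1, 1, -2, 1, 0, 0, 1, 0⟩, ⟨-1, 1, 0, 1, 0, 0, 1, 0⟩, ⟨1, -1, 0, -1, 0, 0, -1, 0⟩⟩,
   ⟨⟨-1, 0, -1, 0, 1, 0, -1, 0⟩, ⟨-1, 0, -1, 0, -1, 0, 1, 0⟩, ⟨1, -1, 1, 1, -1, 1, -1, 1⟩⟩,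
   ⟨⟨0, 1, -1, -1, -1, 0, 0, 0⟩, ⟨0, 0, 1, 0, -1, 1, 0, 1⟩, ⟨0, 0, 1, 0, 1, -1, 2, -1⟩⟩,
   ⟨⟨0, -1, 1, 1, 1, 0, 0, 0⟩, ⟨0, 0, 1, 0, -1, 1, 0, 1⟩, ⟨0, 0, -1, 0, -1, 1, -2, 1⟩⟩,
   ⟨⟨-1, 1, 0, 1, 0, 0, -1, 0⟩, ⟨1, -1, 0, -1, -2, 0, -1, 0⟩, ⟨0, -1, -1, 1, -1, 0, 0, 0⟩⟩,
   ⟨⟨0, 1, 0, 0, -1, 1, -1, 0⟩, ⟨-1, 1, -1, 0, 0, -1, 0, 0⟩, ⟨1, 0, 1, 1, 0, 0, -2, 1⟩⟩,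
   ⟨⟨0, 0, 0, 0, 0, 0, 0, 0⟩, ⟨-1, 0, 1, 0, 1, 0, -1, 2⟩, ⟨-1, 0, -1, 0, -1, 2, -1, 0⟩⟩,
   ⟨⟨0, -1, 1, 0, 0, 0, 1, -1⟩, ⟨1, 0, 0, 1, -1, 1, 0, 0⟩, ⟨-1, 1, -2, 0, 1, 0, 0, -1⟩⟩,
   ⟨⟨0, 1, -1, 0, 0, 0, -1, 1⟩, ⟨1, 0, 0, 1, -1, 1, 0, 0⟩, ⟨1, -1, 2, 0, -1, 0, 0, 1⟩⟩,
   ⟨⟨-1, 2, 0, 0, 0, -1, -1, 1⟩, ⟨0, 0, -1, 0, -1, 1, 0, -1⟩, ⟨0, 0, -1, 0, -1, 1, 0, -1⟩⟩,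
   ⟨⟨0, -1, -1, 0, 0, 0, 1, -1⟩, ⟨0, 0, 1, -1, 0, 1, 1, 0⟩, ⟨1, -1, 2, 0, 1, 0, 0, 1⟩⟩,
   ⟨⟨1, 0, 0, -1, 1, -1, 0, 0⟩, ⟨0, -1, -1, 0, 0, 0, 1, -1⟩, ⟨0, 1, -1, 0, -2, 0, -1, 1⟩⟩,
   ⟨⟨-1, 2, 1, 0, -1, 0, 1, 0⟩, ⟨0, 0, 0, 0, 0, 0, 0, 0⟩, ⟨-1, 0, -1, 2, 1, 0, 1, 0⟩⟩,
   ⟨⟨1, 0, 0, 0, 0, 1, 1, -1⟩, ⟨2, 0, -1, 0, 1, -1, 0, -1⟩, ⟨0, -1, -1, 1, 1, 0, 0, 0⟩⟩,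
   ⟨⟨-1, 2, -1, 0, 1, 0, 1, 0⟩, ⟨1, 0, -1, 2, 1, 0, -1, 0⟩, ⟨0, 0, 0, 0, 0, 0, 0, 0⟩⟩,
   ⟨⟨-1, 1, -1, -1, 1, -1, -1, 1⟩, ⟨-1, 1, 1, -1, -1, 1, -1, -1⟩, ⟨0, 0, 0, 0, 0, 0, 0, 0⟩⟩,
   ⟨⟨1, -1, 0, -1, 0, 0, -1, 0⟩, ⟨-1, 0, 2, 0, 0, 1, 1, -1⟩, ⟨1, 0, 0, 0, 0, 1, 1, -1⟩⟩,
   ⟨⟨1, -2, 0, -1, -1, 1, 0, 0⟩, ⟨0, 1, -1, 0, 0, 0, -1, 1⟩, ⟨1, -1, 0, 0, 1, 0, 0, 1⟩⟩,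
   ⟨⟨0, 1, 0, 0, 1, -1, 1, 0⟩, ⟨0, 0, 0, -1, -1, 0, 1, -1⟩, ⟨0, 0, 2, -1, -1, 0, -1, -1⟩⟩,
   ⟨⟨0, 0, 0, -2, 0, 0, 0, 0⟩, ⟨1, -1, 1, -1, -1, 1, 1, -1⟩, ⟨-1, 0, -1, 0, -1, 0, -1, 0⟩⟩,
   ⟨⟨0, -1, 0, 1, 0, -1, 2, -1⟩, ⟨0, 0, 0, 0, 0, 0, 0, 0⟩, ⟨0, -1, 2, -1, 0, 1, 0, -1⟩⟩,
   ⟨⟨1, 0, 0, -1, -1, 1, 0, 0⟩, ⟨-1, 1, 0, 0, -1, 0, 0, 1⟩, ⟨2, 0, 1, -1, 0, -1, 1, 0⟩⟩,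
   ⟨⟨1, -2, -1, 0, -1, 0, 1, 0⟩, ⟨0, 0, 0, 0, 0, 0, 0, 0⟩, ⟨1, 0, 1, 0, -1, 0, -1, 2⟩⟩,
   ⟨⟨0, 0, 0, 0, 0, 0, 2, -2⟩, ⟨-1, 0, 1, 0, 1, 0, 1, 0⟩, ⟨0, 1, 0, -1, 0, 1, 0, -1⟩⟩,
   ⟨⟨-1, 2, 0, 0, 0, 1, 1, -1⟩, ⟨0, 1, -1, 1, -1, 0, 0, 0⟩, ⟨1, -1, 0, 1, 0, 0, 1, 0⟩⟩,
   ⟨⟨0, 0, 0, 1, 1, 0, 1, -1⟩, ⟨-2, 1, 0, 0, -1, 1, -1, 0⟩, ⟨-1, -1, 1, 0, 0, 1, 0, 0⟩⟩,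
   ⟨⟨0, 0, 0, 1, 1, 0, 1, -1⟩, ⟨2, -1, 0, 0, 1, -1, 1, 0⟩, ⟨1, 1, -1, 0, 0, -1, 0, 0⟩⟩,
   ⟨⟨-1, 0, -1, 0, 1, 0, -1, 0⟩, ⟨1, -1, 1, -1, 1, -1, 1, 1⟩, ⟨-1, 0, 1, 0, 1, 0, 1, 0⟩⟩,
   ⟨⟨-1, 0, 1, 0, 1, 0, 1, 0⟩, ⟨1, 1, 1, -1, 1, -1, 1, -1⟩, ⟨-1, 0, 1, 0, 1, 0, 1, 0⟩⟩,
   ⟨⟨-1, 0, 1, 0, -1, 0, 1, 0⟩, ⟨-1, 0, -1, 0, -1, 0, -1, 0⟩, ⟨0, 1, -2, 1, 0, -1, 0, -1⟩⟩,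
   ⟨⟨-1, 0, -1, 0, -1, 0, -1, 0⟩, ⟨-1, 0, -1, 0, -1, 0, -1, 0⟩, ⟨2, -1, 0, -1, 0, -1, 0, -1⟩⟩,
   ⟨⟨0, -1, -1, 0, 0, 0, 1, -1⟩, ⟨0, 1, 1, 0, 0, 0, -1, 1⟩, ⟨-1, 0, 0, -1, 1, -1, 2, 0⟩⟩,
   ⟨⟨1, -2, 0, -1, 1, -1, 0, 0⟩, ⟨1, 0, 0, 1, 1, -1, 0, 0⟩, ⟨-1, 1, 0, 0, 1, 0, 0, 1⟩⟩,
   ⟨⟨1, -2, 1, 0, 1, 0, 1, 0⟩, ⟨-1, 2, -1, 0, -1, 0, -1, 0⟩, ⟨0, 0, 0, 0, 0, 0, 0, 0⟩⟩,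
   ⟨⟨-1, 0, -1, 0, -1, 0, -1, 0⟩, ⟨-2, 1, 0, 1, 0, 1, 0, 1⟩, ⟨1, 0, 1, 0, 1, 0, 1, 0⟩⟩,
   ⟨⟨-1, 1, 0, 0, -1, 0, -2, 1⟩, ⟨0, 0, 1, -1, 0, -1, 1, 0⟩, ⟨0, 0, 1, 1, 0, 1, 1, 0⟩⟩,
   ⟨⟨-1, 1, 0, 0, -1, 0, 2, -1⟩, ⟨-1, 1, 0, 0, 1, 0, 0, -1⟩, ⟨1, 0, 0, 1, 1, 1, 0, 0⟩⟩,
   ⟨⟨2, -1, 1, 0, 0, 0, -1, -1⟩, ⟨1, -1, 0, 0, 1, 0, 0, 1⟩, ⟨1, 0, 0, 1, -1, 1, 0, 0⟩⟩,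
   ⟨⟨-1, 1, 0, -1, 0, 0, 1, 0⟩, ⟨-1, 0, -2, 0, 0, -1, 1, -1⟩, ⟨1, -1, 0, 1, 0, 0, -1, 0⟩⟩,
   ⟨⟨-1, 2, 0, 0, 0, -1, 1, -1⟩, ⟨0, -1, -1, 1, -1, 0, 0, 0⟩, ⟨1, 0, 0, 0, 0, -1, -1, 1⟩⟩,
   ⟨⟨-1, 2, -1, 0, -1, 0, -1, 0⟩, ⟨0, 0, 0, 0, 0, 0, 0, 0⟩, ⟨1, -2, 1, 0, 1, 0, 1, 0⟩⟩,
   ⟨⟨-1, 0, 1, 0, 1, 0, 1, 0⟩, ⟨1, 0, -1, 0, -1, 0, -1, 0⟩, ⟨-1, -1, -1, 1, -1, 1, -1, 1⟩⟩,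
   ⟨⟨0, -1, 1, 1, 1, 0, 0, 0⟩, ⟨0, 0, -1, 0, -1, 1, -2, 1⟩, ⟨0, 0, -1, 0, 1, -1, 0, -1⟩⟩,
   ⟨⟨0, -1, -1, -1, 1, 0, 0, 0⟩, ⟨1, 0, 0, 0, -2, 1, -1, 1⟩, ⟨0, -1, 1, -1, -1, 0, 0, 0⟩⟩,
   ⟨⟨1, 1, 2, -1, 0, 0, -1, 0⟩, ⟨1, 0, 0, 0, 0, 1, -1, 1⟩, ⟨0, 1, -1, 1, -1, 0, 0, 0⟩⟩,
   ⟨⟨1, -2, 0, 1, -1, 1, 0, 0⟩, ⟨-1, 1, 0, 0, -1, 0, 0, 1⟩, ⟨0, 0, -1, 1, 0, 1, 1, 0⟩⟩,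
   ⟨⟨0, 0, 0, 2, 0, 0, 0, 0⟩, ⟨1, -1, -1, 1, 1, -1, 1, -1⟩, ⟨1, 0, 1, 0, -1, 0, -1, 0⟩⟩,
   ⟨⟨0, 0, 0, 0, 0, 0, -2, 2⟩, ⟨1, 0, 1, 0, 1, 0, -1, 0⟩, ⟨0, 1, 0, -1, 0, -1, 0, 1⟩⟩,
   ⟨⟨-1, 2, 0, 0, 0, 1, -1, 1⟩, ⟨0, 0, -1, 0, -1, 1, 0, 1⟩, ⟨0, -1, -1, 1, 1, 0, 0, 0⟩⟩,
   ⟨⟨-1, 0, 0, -1, 1, -1, 0, 0⟩, ⟨0, 0, 1, -1, 0, 1, -1, 0⟩, ⟨1, 0, 0, -1, 1, -1, 2, 0⟩⟩,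
   ⟨⟨0, -1, 1, 0, 0, 0, 1, -1⟩, ⟨0, -1, 1, 0, 0, 0, 1, -1⟩, ⟨2, 0, 1, -1, 0, 1, 1, 0⟩⟩,
   ⟨⟨-1, 2, 0, -1, 1, -1, 0, 0⟩, ⟨1, 0, 0, -1, -1, 1, 0, 0⟩, ⟨0, 1, 1, 0, 0, 0, 1, -1⟩⟩,
   ⟨⟨0, 0, 0, -2, 0, 0, 0, 0⟩, ⟨1, -1, 1, -1, -1, 1, 1, -1⟩, ⟨1, 0, 1, 0, 1, 0, 1, 0⟩⟩,
   ⟨⟨-1, 0, 0, 0, 0, -1, 1, -1⟩, ⟨1, 0, -2, 0, 0, -1, 1, -1⟩, ⟨0, 0, 1, 0, -1, 1, 0, -1⟩⟩,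
   ⟨⟨-1, 1, 0, -1, 0, 0, -1, 0⟩, ⟨2, 0, -1, 0, -1, 1, 0, -1⟩, ⟨-1, 1, 0, -1, 0, 0, -1, 0⟩⟩,
   ⟨⟨1, -2, 0, 0, 0, -1, 1, -1⟩, ⟨1, -1, 0, -1, 0, 0, -1, 0⟩, ⟨1, 0, 0, 0, 0, 1, 1, -1⟩⟩,
   ⟨⟨0, 0, 0, 0, 0, 0, 2, -2⟩, ⟨1, 0, -1, 0, -1, 0, -1, 0⟩, ⟨0, 1, 0, -1, 0, 1, 0, -1⟩⟩,
   ⟨⟨1, 0, 1, -1, 0, 0, 0, -1⟩, ⟨-1, 0, 1, -1, 2, 0, 0, -1⟩, ⟨1, 0, 1, -1, 0, 0, 0, -1⟩⟩,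
   ⟨⟨-1, 1, 0, 0, -1, 0, 2, -1⟩, ⟨1, 0, 0, -1, 1, -1, 0, 0⟩, ⟨1, 1, 0, 0, -1, 0, 0, -1⟩⟩,
   ⟨⟨-1, 0, 1, 0, -1, 0, 1, 0⟩, ⟨1, 0, 1, 0, 1, 0, 1, 0⟩, ⟨0, -1, 2, -1, 0, 1, 0, 1⟩⟩,
   ⟨⟨0, 1, 1, 0, 0, 0, -1, 1⟩, ⟨0, 1, 1, 0, 0, 0, -1, 1⟩, ⟨-1, 0, 0, -1, 1, -1, 2, 0⟩⟩,
   ⟨⟨-1, 0, 0, 1, -1, 1, 0, 0⟩, ⟨-1, 0, 0, 1, -1, 1, 0, 0⟩, ⟨-1, 0, -2, 1, 1, 1, 0, 0⟩⟩,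
   ⟨⟨-2, 1, 1, 0, 0, 0, -1, -1⟩, ⟨0, 1, 1, 0, 0, 0, 1, -1⟩, ⟨0, -1, -1, 0, 0, 0, -1, 1⟩⟩,
   ⟨⟨2, -1, -1, 0, 0, 0, 1, 1⟩, ⟨0, -1, -1, 0, 0, 0, -1, 1⟩, ⟨0, -1, -1, 0, 0, 0, -1, 1⟩⟩,
   ⟨⟨2, 0, -1, 0, 1, -1, 0, 1⟩, ⟨-1, 1, 0, -1, 0, 0, 1, 0⟩, ⟨0, -1, 1, -1, -1, 0, 0, 0⟩⟩,
   ⟨⟨1, 0, -1, 1, 0, 0, 0, 1⟩, ⟨1, -1, -1, 0, 0, 1, -2, 0⟩, ⟨0, 1, 0, 0, -1, 1, -1, 0⟩⟩,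
   ⟨⟨-1, 0, 1, -1, 0, 0, 0, -1⟩, ⟨1, -1, -1, 0, 0, 1, -2, 0⟩, ⟨0, -1, 0, 0, 1, -1, 1, 0⟩⟩,
   ⟨⟨0, 0, 1, -1, 0, 1, -1, 0⟩, ⟨1, -1, 0, 0, -1, 0, -2, 1⟩, ⟨1, 1, 0, 0, 1, 0, 0, -1⟩⟩,
   ⟨⟨-1, 0, 1, 0, -1, 0, 1, 0⟩, ⟨0, -1, 0, -1, 0, -1, 2, -1⟩, ⟨-1, 0, -1, 0, 1, 0, 1, 0⟩⟩,
   ⟨⟨0, 1, -1, 0, 0, 0, 1, -1⟩, ⟨-1, 1, 0, 0, 1, 0, 0, 1⟩, ⟨0, 1, 1, 0, 2, 0, 1, -1⟩⟩,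
   ⟨⟨0, -1, 1, 0, 0, 0, -1, 1⟩, ⟨1, -1, 0, 0, -1, 0, 0, -1⟩, ⟨0, 1, 1, 0, 2, 0, 1, -1⟩⟩,
   ⟨⟨0, -1, 1, 0, 0, 0, -1, 1⟩, ⟨-1, 1, 0, 0, 1, 0, 0, 1⟩, ⟨0, -1, -1, 0, -2, 0, -1, 1⟩⟩,
   ⟨⟨-1, 0, 1, 0, -1, 0, 1, 0⟩, ⟨-1, 0, -1, 0, 1, 0, 1, 0⟩, ⟨0, 1, 0, 1, 0, 1, -2, 1⟩⟩,
   ⟨⟨0, 0, 0, -1, -1, 0, 1, -1⟩, ⟨1, -1, -1, 0, 2, -1, 0, 0⟩, ⟨1, 0, -1, -1, 0, 0, 0, 1⟩⟩,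
   ⟨⟨-2, 0, 0, 0, 0, 0, 0, 0⟩, ⟨1, -1, -1, 1, 1, -1, -1, 1⟩, ⟨0, 1, 0, -1, 0, 1, 0, 1⟩⟩,
   ⟨⟨0, 0, -1, 1, 0, -1, 1, 0⟩, ⟨1, 0, 0, -1, -1, -1, 0, 0⟩, ⟨-1, 0, -2, 1, -1, 1, 0, 0⟩⟩,
   ⟨⟨-1, 1, -1, 0, 0, -1, 0, 0⟩, ⟨1, 0, 1, 1, 0, 0, -2, 1⟩, ⟨0, -1, 0, 0, 1, -1, 1, 0⟩⟩,
   ⟨⟨1, -1, 1, 0, 0, 1, 0, 0⟩, ⟨1, 0, 1, 1, 0, 0, -2, 1⟩, ⟨0, 1, 0, 0, -1, 1, -1, 0⟩⟩,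
   ⟨⟨0, 0, 1, -1, 0, 1, -1, 0⟩, ⟨1, -1, 0, 0, -1, 0, -2, 1⟩, ⟨-1, -1, 0, 0, -1, 0, 0, 1⟩⟩,
   ⟨⟨0, -1, -1, -1, 1, 0, 0, 0⟩, ⟨2, -1, 1, -1, 1, 0, 0, 0⟩, ⟨1, 0, 0, 0, 0, -1, 1, -1⟩⟩,
   ⟨⟨1, -1, 0, 1, 0, 0, -1, 0⟩, ⟨-1, 0, -2, 0, 0, -1, 1, -1⟩, ⟨1, -1, 0, 1, 0, 0, -1, 0⟩⟩,
   ⟨⟨1, 0, -1, 1, 0, 0, 0, 1⟩, ⟨1, -1, 1, 0, 0, 1, 0, 0⟩, ⟨0, 1, 2, 0, -1, 1, 1, 0⟩⟩,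
   ⟨⟨-1, 0, 1, -1, 0, 0, 0, -1⟩, ⟨-1, 1, -1, 0, 0, -1, 0, 0⟩, ⟨0, 1, 2, 0, -1, 1, 1, 0⟩⟩,
   ⟨⟨0, 0, 1, 0, -1, 1, 0, -1⟩, ⟨2, -1, 1, -1, -1, 0, 0, 0⟩, ⟨0, 1, 1, 1, 1, 0, 0, 0⟩⟩,
   ⟨⟨-1, -1, 2, -1, 0, 0, -1, 0⟩, ⟨-1, 1, 0, 1, 0, 0, 1, 0⟩, ⟨1, -1, 0, -1, 0, 0, -1, 0⟩⟩,
   ⟨⟨1, 1, -2, 1, 0, 0, 1, 0⟩, ⟨-1, 1, 0, 1, 0, 0, 1, 0⟩, ⟨-1, 1, 0, 1, 0, 0, 1, 0⟩⟩,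
   ⟨⟨2, 0, -1, 1, 0, -1, 1, 0⟩, ⟨-1, 1, 0, 0, 1, 0, 0, -1⟩, ⟨0, -1, -1, 0, 0, 0, 1, -1⟩⟩,
   ⟨⟨1, -1, 0, -1, 0, 0, 1, 0⟩, ⟨1, -1, 0, -1, -2, 0, -1, 0⟩, ⟨0, -1, -1, 1, -1, 0, 0, 0⟩⟩,
   ⟨⟨-1, 1, 0, 1, 0, 0, -1, 0⟩, ⟨-1, 1, 0, 1, 2, 0, 1, 0⟩, ⟨0, -1, -1, 1, -1, 0, 0, 0⟩⟩,
   ⟨⟨-1, 1, 0, 1, 0, 0, -1, 0⟩, ⟨1, -1, 0, -1, -2, 0, -1, 0⟩, ⟨0, 1, 1, -1, 1, 0, 0, 0⟩⟩,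
   ⟨⟨-1, 0, -1, 0, 1, 0, -1, 0⟩, ⟨1, -1, 1, 1, -1, 1, -1, 1⟩, ⟨-1, 0, -1, 0, -1, 0, 1, 0⟩⟩,
   ⟨⟨0, -1, 0, 0, 1, -1, 1, 0⟩, ⟨-1, 1, -1, 0, 0, -1, 0, 0⟩, ⟨1, 0, 1, 1, 0, 0, -2, 1⟩⟩,
   ⟨⟨0, 1, 0, 0, -1, 1, -1, 0⟩, ⟨1, -1, 1, 0, 0, 1, 0, 0⟩, ⟨1, 0, 1, 1, 0, 0, -2, 1⟩⟩,
   ⟨⟨0, 0, 1, 0, -1, 1, 0, -1⟩, ⟨-2, 1, -1, 1, 1, 0, 0, 0⟩, ⟨0, 1, 1, 1, 1, 0, 0, 0⟩⟩,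
   ⟨⟨0, 0, 0, 1, -1, 0, -1, 1⟩, ⟨-1, 0, 1, -1, 0, 0, -2, 1⟩, ⟨0, -1, 0, 0, 1, 1, -1, 0⟩⟩,
   ⟨⟨2, 0, 0, 0, 0, 0, 0, 0⟩, ⟨-1, 1, 1, -1, 1, -1, -1, 1⟩, ⟨0, -1, 0, -1, 0, 1, 0, -1⟩⟩,
   ⟨⟨0, 0, -1, 0, 1, -1, 0, 1⟩, ⟨-1, 0, 0, 0, 0, 1, 1, 1⟩, ⟨1, 0, 0, 0, 2, -1, 1, -1⟩⟩,
   ⟨⟨-1, 0, 0, 0, 0, -1, -1, 1⟩, ⟨2, 0, -1, 0, 1, -1, 0, -1⟩, ⟨0, -1, -1, 1, 1, 0, 0, 0⟩⟩,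
   ⟨⟨1, 0, 0, 0, 0, 1, 1, -1⟩, ⟨-2, 0, 1, 0, -1, 1, 0, 1⟩, ⟨0, -1, -1, 1, 1, 0, 0, 0⟩⟩,
   ⟨⟨1, 0, 0, 0, 0, 1, 1, -1⟩, ⟨2, 0, -1, 0, 1, -1, 0, -1⟩, ⟨0, 1, 1, -1, -1, 0, 0, 0⟩⟩,
   ⟨⟨1, -2, 1, 0, -1, 0, -1, 0⟩, ⟨1, 0, -1, 2, 1, 0, -1, 0⟩, ⟨0, 0, 0, 0, 0, 0, 0, 0⟩⟩,
   ⟨⟨1, -1, 1, 1, -1, 1, 1, -1⟩, ⟨-1, 1, 1, -1, -1, 1, -1, -1⟩, ⟨0, 0, 0, 0, 0, 0, 0, 0⟩⟩,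
   ⟨⟨-1, 1, 0, 1, 0, 0, 1, 0⟩, ⟨-1, 0, 2, 0, 0, 1, 1, -1⟩, ⟨1, 0, 0, 0, 0, 1, 1, -1⟩⟩,
   ⟨⟨1, -1, 0, -1, 0, 0, -1, 0⟩, ⟨1, 0, -2, 0, 0, -1, -1, 1⟩, ⟨1, 0, 0, 0, 0, 1, 1, -1⟩⟩,
   ⟨⟨1, -2, 0, -1, -1, 1, 0, 0⟩, ⟨0, -1, 1, 0, 0, 0, 1, -1⟩, ⟨1, -1, 0, 0, 1, 0, 0, 1⟩⟩,
   ⟨⟨1, -2, 0, -1, -1, 1, 0, 0⟩, ⟨0, 1, -1, 0, 0, 0, -1, 1⟩, ⟨-1, 1, 0, 0, -1, 0, 0, -1⟩⟩,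
   ⟨⟨0, -1, 0, 0, -1, 1, -1, 0⟩, ⟨0, 0, 0, -1, -1, 0, 1, -1⟩, ⟨0, 0, 2, -1, -1, 0, -1, -1⟩⟩,
   ⟨⟨0, 1, 0, 0, 1, -1, 1, 0⟩, ⟨0, 0, 0, -1, -1, 0, 1, -1⟩, ⟨0, 0, -2, 1, 1, 0, 1, 1⟩⟩,
   ⟨⟨0, 1, 0, -1, 0, 1, -2, 1⟩, ⟨0, 0, 0, 0, 0, 0, 0, 0⟩, ⟨0, -1, 2, -1, 0, 1, 0, -1⟩⟩,
   ⟨⟨-1, 0, 0, 1, 1, -1, 0, 0⟩, ⟨-1, 1, 0, 0, -1, 0, 0, 1⟩, ⟨2, 0, 1, -1, 0, -1, 1, 0⟩⟩,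
   ⟨⟨1, 0, 0, -1, -1, 1, 0, 0⟩, ⟨1, -1, 0, 0, 1, 0, 0, -1⟩, ⟨2, 0, 1, -1, 0, -1, 1, 0⟩⟩,
   ⟨⟨1, 0, 0, -1, -1, 1, 0, 0⟩, ⟨-1, 1, 0, 0, -1, 0, 0, 1⟩, ⟨-2, 0, -1, 1, 0, 1, -1, 0⟩⟩,
   ⟨⟨-1, 2, 1, 0, 1, 0, -1, 0⟩, ⟨0, 0, 0, 0, 0, 0, 0, 0⟩, ⟨1, 0, 1, 0, -1, 0, -1, 2⟩⟩,
   ⟨⟨-1, 2, 0, 0, 0, 1, 1, -1⟩, ⟨0, -1, 1, -1, 1, 0, 0, 0⟩, ⟨1, -1, 0, 1, 0, 0, 1, 0⟩⟩,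
   ⟨⟨-1, 2, 0, 0, 0, 1, 1, -1⟩, ⟨0, 1, -1, 1, -1, 0, 0, 0⟩, ⟨-1, 1, 0, -1, 0, 0, -1, 0⟩⟩,
   ⟨⟨1, 0, -1, 0, -1, 0, -1, 0⟩, ⟨1, 1, 1, -1, 1, -1, 1, -1⟩, ⟨-1, 0, 1, 0, 1, 0, 1, 0⟩⟩,
   ⟨⟨1, 0, 1, 0, 1, 0, 1, 0⟩, ⟨-1, 0, -1, 0, -1, 0, -1, 0⟩, ⟨2, -1, 0, -1, 0, -1, 0, -1⟩⟩,
   ⟨⟨0, -1, -1, 0, 0, 0, 1, -1⟩, ⟨0, 1, 1, 0, 0, 0, -1, 1⟩, ⟨1, 0, 0, 1, -1, 1, -2, 0⟩⟩,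
   ⟨⟨-1, 2, 0, 1, -1, 1, 0, 0⟩, ⟨1, 0, 0, 1, 1, -1, 0, 0⟩, ⟨-1, 1, 0, 0, 1, 0, 0, 1⟩⟩,
   ⟨⟨1, -2, 0, -1, 1, -1, 0, 0⟩, ⟨-1, 0, 0, -1, -1, 1, 0, 0⟩, ⟨-1, 1, 0, 0, 1, 0, 0, 1⟩⟩,
   ⟨⟨2, 0, 1, 0, 1, -1, 0, -1⟩, ⟨1, 0, 0, 0, 0, -1, -1, 1⟩, ⟨-1, 1, 0, 1, 0, 0, -1, 0⟩⟩,
   ⟨⟨-1, 1, 0, -1, 0, 0, 1, 0⟩, ⟨1, 0, 2, 0, 0, 1, -1, 1⟩, ⟨1, -1, 0, 1, 0, 0, -1, 0⟩⟩,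
   ⟨⟨1, -2, 0, 0, 0, 1, -1, 1⟩, ⟨0, -1, -1, 1, -1, 0, 0, 0⟩, ⟨1, 0, 0, 0, 0, -1, -1, 1⟩⟩,
   ⟨⟨-1, 2, 0, 0, 0, -1, 1, -1⟩, ⟨0, -1, -1, 1, -1, 0, 0, 0⟩, ⟨-1, 0, 0, 0, 0, 1, 1, -1⟩⟩,
   ⟨⟨2, 0, 1, -1, 0, -1, -1, 0⟩, ⟨0, -1, 1, 0, 0, 0, -1, 1⟩, ⟨1, 0, 0, 1, 1, -1, 0, 0⟩⟩,
   ⟨⟨-2, 1, 0, -1, 0, -1, 0, 1⟩, ⟨1, 0, 1, 0, -1, 0, -1, 0⟩, ⟨1, 0, -1, 0, -1, 0, 1, 0⟩⟩,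
   ⟨⟨1, -1, 0, 1, 0, 0, 1, -2⟩, ⟨1, -1, 0, -1, 0, 0, 1, 0⟩, ⟨0, 1, 1, -1, 1, 0, 0, 0⟩⟩,
   ⟨⟨0, 1, 0, 0, 1, -1, -1, 0⟩, ⟨-1, -1, 1, 0, 0, -1, 0, 0⟩, ⟨-2, 1, 0, 0, 1, -1, 1, 0⟩⟩,
   ⟨⟨0, 0, 1, -1, 0, 1, -1, 0⟩, ⟨1, 0, 0, -1, -1, -1, 0, 0⟩, ⟨-1, 0, -2, 1, -1, 1, 0, 0⟩⟩,
   ⟨⟨0, 0, -1, 1, 0, -1, 1, 0⟩, ⟨1, 0, 0, -1, -1, -1, 0, 0⟩, ⟨1, 0, 2, -1, 1, -1, 0, 0⟩⟩,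
   ⟨⟨1, -1, 1, 0, 0, -1, 0, 0⟩, ⟨-1, -1, -1, 0, 0, -1, 0, 0⟩, ⟨-2, 1, 0, 0, 1, -1, -1, 0⟩⟩,
   ⟨⟨0, 0, 1, 0, -1, 1, 0, -1⟩, ⟨-1, 0, 0, 0, 0, 1, 1, 1⟩, ⟨1, 0, 0, 0, 2, -1, 1, -1⟩⟩,
   ⟨⟨0, 0, -1, 0, 1, -1, 0, 1⟩, ⟨1, 0, 0, 0, 0, -1, -1, -1⟩, ⟨1, 0, 0, 0, 2, -1, 1, -1⟩⟩]

def mirL : List V3 :=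
  [⟨⟨4, 0, 0, 0, 0, 0, 0, 0⟩, ⟨0, 0, 0, 0, 0, 0, 0, 0⟩, ⟨0, 0, 0, 0, 0, 0, 0, 0⟩⟩,
   ⟨⟨0, 0, 0, 0, 0, 0, 0, 0⟩, ⟨4, 0, 0, 0, 0, 0, 0, 0⟩, ⟨0, 0, 0, 0, 0, 0, 0, 0⟩⟩,
   ⟨⟨0, 0, 0, 0, 0, 0, 0, 0⟩, ⟨0, 0, 0, 0, 0, 0, 0, 0⟩, ⟨4, 0, 0, 0, 0, 0, 0, 0⟩⟩,
   ⟨⟨1, 0, 1, 0, 1, 0, 1, 0⟩, ⟨0, 0, 0, 0, 0, -2, 0, 0⟩, ⟨-1, 1, -1, 1, -1, 1, 1, -1⟩⟩,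
   ⟨⟨1, 0, 1, 0, 1, 0, 1, 0⟩, ⟨0, 2, 0, 0, 0, 0, 0, 0⟩, ⟨-1, 1, 1, -1, 1, -1, 1, -1⟩⟩]

/-- Schreier tree on the lines: `(parent, mirror)` for the representatives 1..314 -/
def treeL : List (ℕ × ℕ) :=
  [(0, 3), (0, 4), (1, 0), (1, 1), (1, 2), (1, 4), (2, 0), (2, 1), (2, 2), (2, 3), (3, 4), (4, 3), (4, 4), (5, 3), (5, 4), (6, 0), (6, 1), (6, 2), (6, 3), (7, 3), (8, 3), (8, 4), (9, 3), (9, 4), (10, 0), (10, 1), (10, 2), (10, 4), (11, 0), (11, 1), (11, 2), (12, 0), (12, 1), (12, 2), (12, 4), (13, 0), (13, 1), (13, 2), (13, 3), (14, 0), (14, 1), (14, 2), (14, 4), (15,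 0), (15, 1), (15, 2), (15, 3), (17, 3), (17, 4), (18, 3), (18, 4), (19, 1), (19, 4), (20, 0), (20, 1), (20, 2), (21, 0), (21, 1), (21, 2), (21, 4), (22, 0), (22, 1), (22, 2), (22, 3), (23, 0), (23, 1), (23, 2), (23, 4), (24, 0), (24, 1), (24, 2), (24, 3), (26, 3), (26, 4), (27, 3), (27, 4), (28, 1), (30, 3), (30, 4), (31, 3), (31, 4), (32, 4), (33, 4), (34, 3), (34, 4), (35, 0), (35, 1), (35, 2), (35, 3), (36, 3), (37, 3), (37, 4), (38, 4), (39, 0), (39, 1), (39, 4), (40, 4), (41, 3), (41, 4), (42, 4), (43, 0), (43, 1), (43, 2), (43, 3), (44, 3), (45, 4), (46, 3),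 (46, 4), (47, 0), (47, 2), (47, 4), (48, 1), (48, 2), (49, 0), (49, 1), (49, 2), (49, 3), (50, 1), (50, 2), (51, 0), (51, 1), (51, 2), (51, 3), (52, 3), (53, 0), (53, 1), (53, 2), (57, 4), (58, 3), (60, 3), (61, 3), (64, 0), (64, 1), (64, 4), (65, 4), (67, 3), (68, 3), (69, 3), (72, 0), (72, 2), (72, 4), (73, 1), (73, 2), (73, 4), (75, 1), (75, 2), (75, 4), (77, 4), (78, 0), (78, 1), (78, 2), (79, 2), (80, 0), (80, 1), (80, 2), (81, 1), (82, 0), (82, 2), (82, 3), (85, 1), (86, 3), (87, 3), (87, 4), (88, 4), (89, 4), (90, 0), (90, 1), (90, 4), (91, 1), (92, 0), (92,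 1), (92, 3), (93, 3), (94, 4), (95, 3), (96, 0), (97, 0), (97, 3), (99, 2), (101, 3), (102, 4), (103, 4), (104, 4), (105, 0), (105, 2), (105, 4), (106, 3), (107, 1), (108, 0), (108, 2), (108, 3), (109, 4), (110, 3), (111, 0), (112, 3), (112, 4), (113, 3), (113, 4), (115, 3), (116, 3), (116, 4), (118, 3), (119, 3), (119, 4), (121, 4), (122, 3), (124, 1), (124, 2), (126, 3), (126, 4), (127, 3), (127, 4), (128, 3), (129, 4), (130, 0), (130, 4), (131, 4), (132, 4), (133, 3), (135, 3), (136, 4), (137, 0), (137, 4), (138, 4), (139, 4), (140, 3), (142, 4), (143, 3), (145,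 3), (146, 4), (151, 3), (151, 4), (152, 3), (152, 4), (154, 3), (154, 4), (156, 3), (156, 4), (158, 4), (159, 2), (159, 4), (161, 4), (162, 4), (163, 0), (163, 1), (163, 3), (164, 0), (164, 2), (164, 3), (165, 1), (168, 0), (168, 1), (168, 2), (168, 3), (169, 3), (169, 4), (172, 4), (173, 0), (173, 2), (173, 4), (178, 1), (180, 4), (181, 0), (181, 1), (181, 3), (182, 0), (182, 2), (182, 3), (186, 0), (186, 1), (186, 2), (186, 3), (187, 0), (187, 1), (187, 4), (188, 3), (188, 4), (191, 4), (195, 0), (195, 1), (195, 2), (196, 0), (197, 0), (198, 0), (198, 1), (199,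 1), (199, 2), (200, 0), (200, 2), (202, 0), (203, 0), (203, 1), (203, 2), (204, 0), (206, 1), (206, 2), (210, 0), (212, 0), (213, 2), (214, 0), (214, 1), (219, 4), (220, 1), (221, 0), (221, 2), (226, 4), (231, 4), (232, 3), (244, 3), (257, 0), (257, 2), (266, 3), (278, 0), (278, 1)]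

end Cfsg.Agent.H9.J2
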