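import Cfsg.Agent.H9.J2.Reps

/-! generated: data for the centraliser of a reflection (helper9) -/

set_option autoImplicit false
set_option maxRecDepth 100000

namespace Cfsg.Agent.H9.J2

/-- the 10 representatives perpendicular to the first one -/
def perpIdxL : List ℕ := [19, 28, 52, 77, 84, 91, 98, 107, 169, 188]

/-- the 5 pairs of perpendicular lines in the plane `e₁^⊥` -/
def pairL : List (ℕ × ℕ) := [(19, 52), (28, 77), (84, 98), (91, 169), (107, 188)]

/-- perpendicular index ↦ number of its pair -/
def pairTab : List (ℕ × ℕ) := [(19, 0), (28, 1), (52, 0), (77, 1), (84, 2), (91, 3), (98, 2), (107, 4), (169, 3), (188, 4)]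

/-- for each word of `qwL`: a mirror and a coordinate witnessing non-centrality (or `(0, 0)`) -/
def centL : List (ℕ × ℕ) := [(0, 0), (28, 1), (19, 1), (28, 1), (19, 1), (19, 1), (19, 1), (19, 1), (19, 1), (19, 1), (19, 1), (19, 1), (0, 0), (19, 1), (19, 1), (19, 1), (19, 1), (19, 1), (19, 1), (19, 1), (28, 1), (28, 1), (28, 1), (28, 1), (28, 1), (28, 1), (84, 1), (84, 1), (84, 1), (84, 1), (91, 1), (91, 1)]

/-- three words fixing the first line -/
def awL : List (List ℕ) := [[130, 196], [67, 199], [15, 295]]

def awStabL : List ℕ := [45, 68, 53]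

/-- for each word of `awL` and each pair `i`: `(l, unit)` with `word (rep (first of pair i)) = unit • rep l` -/
def sigL : List (List (ℕ × ℕ)) := [[(188, 27), (169, 12), (84, 119), (28, 9), (19, 26)], [(98, 23), (188, 95), (19, 56), (91, 119), (28, 20)], [(169, 53), (84, 6), (77, 22), (19, 40), (107, 53)]]

end Cfsg.Agent.H9.J2
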