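import Cfsg.Agent.H9.J2.QS2

/-!
# The stabiliser of a reflection acts on the five frames through it (helper9)
-/

set_option autoImplicit false
open Quaternion

namespace Cfsg.Agent.H9.J2

open Q8 Cfsg.Spor MulAction

/-- two reflections commute -/
def CommX (x y : XR) : Prop :=
  (x : Equiv.Perm LL) * (y : Equiv.Perm LL) = (y : Equiv.Perm LL) * (x : Equiv.Perm LL)

theorem commX_smul (g : ↥twoJ2) {x y : XR} (h : CommX x y) : CommX (g • x) (g • y) := by
  unfold CommX at h ⊢
  rw [smul_val, smul_val]
  calc (g : Equiv.Perm LL) * x * (g : Equiv.Perm LL)⁻¹ * ((g : Equiv.Perm LL) * y *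
        (g : Equiv.Perm LL)⁻¹)
      = (g : Equiv.Perm LL) * ((x : Equiv.Perm LL) * y) * (g : Equiv.Perm LL)⁻¹ := by group
    _ = (g : Equiv.Perm LL) * ((y : Equiv.Perm LL) * x) * (g : Equiv.Perm LL)⁻¹ := by rw [h]
    _ = (g : Equiv.Perm LL) * y * (g : Equiv.Perm LL)⁻¹ * ((g : Equiv.Perm LL) * x *
        (g : Equiv.Perm LL)⁻¹) := by group

theorem commX_smulJ (c : J2) {x y : XR} (h : CommX x y) : CommX (c • x) (c • y) := by
  induction c using QuotientGroup.induction_on with
  | H g => exact commX_smul g h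

theorem comm_of_conj {G : Type*} [Group G] {a b : G} (h : a * b * a⁻¹ = b) : a * b = b * a := by
  calc a * b = a * b * a⁻¹ * a := by group
    _ = b * a := by rw [h]

theorem conj_of_comm {G : Type*} [Group G] {a b : G} (h : a * b = b * a) : a * b * a⁻¹ = b := by
  rw [h]; group

/-- the index `k` is one of the ten perpendicular ones -/
def perpI (k : ℕ) : Prop := k < 315 ∧ (repL.getD k dV).x = zero

theorem commX_of_perp {k : ℕ} (h : (repL.getD k dV).x = zero) : CommX (xk k) (xk 0) := by
  have h1 := conj_refl (rep_MV k) (eV_MV 0)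
  have h2 : qrefl (V3.toV (repL.getD k dV)) (eV 0) = eV 0 := by
    have := congrArg Subtype.val (Fk_fix_of_perp h)
    rw [Fk, reflV_apply (rep_MV k)] at this
    exact this
  rw [h2] at h1
  show Fk k * Fk 0 = Fk 0 * Fk k
  rw [Fk0_eq]
  exact comm_of_conj h1

set_option maxRecDepth 100000 in
theorem rep0_x : (repL.getD 0 dV).x ≠ zero := by decide +kernel

theorem commX_x0 {k : ℕ} (hk : k < 315) (h : CommX (xk k) (xk 0)) :
    k = 0 ∨ (repL.getD k dV).x = zero := by
  have h0 : Fk 0 * Fk k = Fk k * Fk 0 := h.symm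
  rw [Fk0_eq] at h0
  have h1 := conj_of_comm h0
  have hmv := rep_MV k
  rw [Fk, conj_refl (eV_MV 0) hmv] at h1
  have hmv' := qrefl_mem_MV (eV_MV 0) hmv
  rw [reflV_eq hmv', reflV_eq hmv] at h1
  have p1 := proj_eq_of_refl_eq _ _ _ _ h1 0 1
  have p2 := proj_eq_of_refl_eq _ _ _ _ h1 0 2
  rw [qrefl_eV] at p1 p2
  simp only [if_true, if_false, star_neg, neg_mul, V3.toV_zero, V3.toV_one, V3.toV_two,
    show (1 : Fin 3) ≠ 0 from by decide, show (2 : Fin 3) ≠ 0 from by decide] at p1 p2
  have q1 := eq_zero_of_eq_neg p1.symm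
  have q2 := eq_zero_of_eq_neg p2.symm
  rcases mul_eq_zero.1 q1 with hx | hy
  · right
    apply toH_injective
    rw [toH_zero]
    exact star_eq_zero.1 hx
  · rcases mul_eq_zero.1 q2 with hx | hz
    · right
      apply toH_injective
      rw [toH_zero]
      exact star_eq_zero.1 hx
    · left
      have hy' : (repL.getD k dV).y = zero := toH_injective (by rw [toH_zero]; exact hy)
      have hz' : (repL.getD k dV).z = zero := toH_injective (by rw [toH_zero]; exact hz)
      have hk' : k < repL.length := by rw [repL_length]; exact hk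
      have hd : repL.getD k dV = dV := by
        rw [List.getD_eq_getElem _ _ hk'] at hy' hz' ⊢
        exact rep_yz _ (List.getElem_mem hk') hy' hz'
      apply xk_inj hk (by norm_num)
      apply Subtype.ext
      show Fk k = Fk 0
      unfold Fk
      rw [hd]
      rfl

theorem smul_xk0_ne {c : J2} (hc : c • xk 0 = xk 0) {k : ℕ} (hk : perpI k) :
    c • xk k ≠ xk 0 := by
  intro h
  have h1 : c • xk k = c • xk 0 := h.trans hc.symm
  have h2 : xk k = xk 0 := MulAction.injective c h1
  have h3 := xk_inj hk.1 (by norm_num) h2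
  rw [h3] at hk
  exact rep0_x hk.2

theorem perp_smul {c : J2} (hc : c • xk 0 = xk 0) {k : ℕ} (hk : perpI k) :
    perpI (idxOf (c • xk k)) := by
  refine ⟨idxOf_lt _, ?_⟩
  have h1 : CommX (c • xk k) (c • xk 0) := commX_smulJ c (commX_of_perp hk.2)
  rw [hc, ← xk_idxOf (c • xk k)] at h1
  rcases commX_x0 (idxOf_lt _) h1 with h0 | h0
  · exfalso
    apply smul_xk0_ne hc hk
    rw [← xk_idxOf (c • xk k), h0]
  · exact h0

/-! ## the pairs -/

def pairN (k : ℕ) : ℕ := (pairTab.lookup k).getD 5

def pairOK (k l : ℕ) : Bool :=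
  if pairN k = pairN l then
    (Nat.beq k l || decide (reflO (repL.getD k dV) (repL.getD l dV) = some (repL.getD l dV)))
  else
    (match reflO (repL.getD k dV) (repL.getD l dV) with
     | some y => !(Nat.beq (keyP y) (keyP (repL.getD l dV)))
     | none => false)

set_option maxRecDepth 100000 in
theorem pair_tab_ok : ∀ k ∈ perpIdxL, ∀ l ∈ perpIdxL, pairOK k l = true := by decide +kernel

set_option maxRecDepth 100000 in
theorem perp_list : ∀ k ∈ List.range 315, (repL.getD k dV).x = zero → k ∈ perpIdxL := by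
  decide +kernel

theorem pairN_lt : ∀ k ∈ perpIdxL, pairN k < 5 := by decide +kernel

theorem perpI_mem {k : ℕ} (hk : perpI k) : k ∈ perpIdxL :=
  perp_list k (List.mem_range.2 hk.1) hk.2

theorem pair_iff {k l : ℕ} (hk : perpI k) (hl : perpI l) :
    pairN k = pairN l ↔ (k = l ∨ CommX (xk k) (xk l)) := by
  have h := pair_tab_ok k (perpI_mem hk) l (perpI_mem hl)
  unfold pairOK at h
  have hc := conj_refl (rep_MV k) (rep_MV l)
  constructor
  · intro hp
    rw [if_pos hp] at h
    simp only [Bool.or_eq_true, decide_eq_true_eq] at h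
    rcases h with h | h
    · left
      exact Nat.eq_of_beq_eq_true h
    · right
      rw [reflO_spec h] at hc
      exact comm_of_conj hc
  · intro hor
    by_contra hp
    rw [if_neg hp] at h
    rcases hor with rfl | hcomm
    · exact hp rfl
    · cases hr : reflO (repL.getD k dV) (repL.getD l dV) with
      | none => rw [hr] at h; exact absurd h (by simp)
      | some y =>
        rw [hr] at h
        simp only [Bool.not_eq_true'] at h
        rw [reflO_spec hr] at hc
        have h1 : Fk k * Fk l * (Fk k)⁻¹ = Fk l := conj_of_comm hcomm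
        have hy : y.toV ∈ MV := by
          rw [← reflO_spec hr]
          exact qrefl_mem_MV (rep_MV k) (rep_MV l)
        have h2 : reflV y.toV = reflV (V3.toV (repL.getD l dV)) := hc.symm.trans h1
        rw [← reflOf_eq_reflV (minP_of_MV hy), ← reflOf_eq_reflV (getD_min repL_min l)] at h2
        have h3 := keyP_eq_of_reflOf_eq (minP_of_MV hy) (getD_min repL_min l) h2
        rw [h3] at h
        simp at h

theorem pair_smul {c : J2} (hc : c • xk 0 = xk 0) {k l : ℕ} (hk : perpI k) (hl : perpI l)
    (h : pairN k = pairN l) : pairN (idxOf (c • xk k)) = pairN (idxOf (c • xk l)) := by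
  rw [pair_iff (perp_smul hc hk) (perp_smul hc hl)]
  rcases (pair_iff hk hl).1 h with rfl | hcomm
  · left
    rfl
  · right
    rw [xk_idxOf, xk_idxOf]
    exact commX_smulJ c hcomm

/-! ## the action on the five pairs -/

/-- the first member of each pair -/
def aF : Fin 5 → ℕ := ![19, 28, 84, 91, 107]

def pairF (k : ℕ) : Fin 5 := if h : pairN k < 5 then ⟨pairN k, h⟩ else 0

set_option maxRecDepth 100000 in
theorem aF_ok : ∀ i : Fin 5, (aF i < 315 ∧ (repL.getD (aF i) dV).x = zero) ∧
    pairN (aF i) = (i : ℕ) := by decide +kernel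

theorem pairF_val {k : ℕ} (hk : perpI k) : ((pairF k : Fin 5) : ℕ) = pairN k := by
  unfold pairF
  rw [dif_pos (pairN_lt k (perpI_mem hk))]

theorem pairF_aF (i : Fin 5) : pairF (aF i) = i :=
  Fin.ext ((pairF_val (aF_ok i).1).trans (aF_ok i).2)

/-- the stabiliser of the first reflection in `J2` -/
noncomputable abbrev C0 : Subgroup J2 := stabilizer J2 (xk 0)

theorem C0_fix (c : ↥C0) : (c : J2) • xk 0 = xk 0 := c.2

noncomputable def pairSmul (c : ↥C0) (i : Fin 5) : Fin 5 := pairF (idxOf ((c : J2) • xk (aF i)))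

theorem pairSmul_spec (c : ↥C0) (i : Fin 5) {k : ℕ} (hk : perpI k) (hki : pairN k = (i : ℕ)) :
    pairF (idxOf ((c : J2) • xk k)) = pairSmul c i := by
  apply Fin.ext
  rw [pairSmul, pairF_val (perp_smul (C0_fix c) hk), pairF_val (perp_smul (C0_fix c) (aF_ok i).1)]
  exact pair_smul (C0_fix c) hk (aF_ok i).1 (hki.trans (aF_ok i).2.symm)

/-- the action of the stabiliser on the five pairs -/
@[reducible] noncomputable def pairAct : MulAction ↥C0 (Fin 5) where
  smul := pairSmul
  one_smul i := by
    show pairF (idxOf (((1 : ↥C0) : J2) • xk (aF i))) = i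
    rw [Subgroup.coe_one, one_smul, idxOf_xk (aF_ok i).1.1]
    exact pairF_aF i
  mul_smul c c' i := by
    show pairF (idxOf (((c * c' : ↥C0) : J2) • xk (aF i))) = pairSmul c (pairSmul c' i)
    have hperp := perp_smul (C0_fix c') (aF_ok i).1
    have e1 : ((c * c' : ↥C0) : J2) • xk (aF i) =
        (c : J2) • xk (idxOf ((c' : J2) • xk (aF i))) := by
      rw [Subgroup.coe_mul, mul_smul, xk_idxOf]
    rw [e1]
    exact pairSmul_spec c (pairF (idxOf ((c' : J2) • xk (aF i)))) hperp (pairF_val hperp).symm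

/-- the homomorphism to the symmetric group of degree 5 -/
noncomputable def PhiH : ↥C0 →* Equiv.Perm (Fin 5) := @MulAction.toPermHom ↥C0 (Fin 5) _ pairAct

theorem PhiH_apply (c : ↥C0) (i : Fin 5) : PhiH c i = pairSmul c i := rfl

end Cfsg.Agent.H9.J2
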