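import Cfsg.Agent.H9.J2.Cent
import Cfsg.Agent.H9.J2.ES
import Cfsg.Agent.H9.J2.PData

/-!
# The stabiliser of `2e₁` is extraspecial of order 32 (helper9)
-/

set_option autoImplicit false
open Quaternion

namespace Cfsg.Agent.H9.J2

open Q8 Cfsg.Spor MulAction

theorem wordG_append : ∀ w w' : List ℕ, wordG (w ++ w') = wordG w' * wordG w := by
  intro w
  induction w with
  | nil => intro w'; simp [wordG]
  | cons m w ih =>
    intro w'
    show wordG (w ++ w') * Fk m = wordG w' * (wordG w * Fk m)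
    rw [ih, mul_assoc]

def ne2V : V3 := ⟨zero, neg two, zero⟩
def ne3V : V3 := ⟨zero, zero, neg two⟩

theorem ne2V_toV : ne2V.toV = -(eV 1) := by
  funext t
  fin_cases t <;> simp [ne2V, eV, toH_neg, toH_two, toH_zero]

theorem ne3V_toV : ne3V.toV = -(eV 2) := by
  funext t
  fin_cases t <;> simp [ne3V, eV, toH_neg, toH_two, toH_zero]

theorem EL1_eq : EL 1 = ⟨e2V.toV, (toV_mem_MV e2V_min).1⟩ := Subtype.ext e2V_toV.symm
theorem EL2_eq : EL 2 = ⟨e3V.toV, (toV_mem_MV e3V_min).1⟩ := Subtype.ext e3V_toV.symm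

/-- the central involution `diag(1, -1, -1)` -/
noncomputable def zP : Equiv.Perm LL := nu * reflV (eV 0)

theorem zP_mem : zP ∈ twoJ2 := mul_mem nu_mem (reflV_mem_twoJ2 (eV_MV 0))

theorem zP_apply (x : LL) : ((zP x : LL) : V) = fun t => if t = 0 then (x : V) t else -((x : V) t) := by
  unfold zP
  rw [Equiv.Perm.mul_apply, nu_apply, reflV_apply (eV_MV 0), qrefl_eV]
  funext t
  by_cases h : t = 0 <;> simp [h]

theorem zP_EL0 : zP (EL 0) = EL 0 := by
  apply Subtype.ext
  rw [zP_apply]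
  funext t
  by_cases h : t = 0
  · simp [h]
  · simp [h, EL, eV]

theorem zP_EL1 : ((zP (EL 1) : LL) : V) = -(eV 1) := by
  rw [zP_apply]
  funext t
  fin_cases t <;> simp [EL, eV]

theorem zP_EL2 : ((zP (EL 2) : LL) : V) = -(eV 2) := by
  rw [zP_apply]
  funext t
  fin_cases t <;> simp [EL, eV]

/-- elements of the stabiliser of `2e₁` -/
noncomputable def mkQ (g : Equiv.Perm LL) (hg : g ∈ twoJ2) (h0 : g (EL 0) = EL 0) : ↥QS :=
  ⟨⟨g, hg⟩, (mem_QS _).2 h0⟩

theorem qs_fix (q : ↥QS) : ((q : ↥twoJ2) : Equiv.Perm LL) (EL 0) = EL 0 := (mem_QS _).1 q.2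

theorem qs_ext {q q' : ↥QS} (h1 : ((q : ↥twoJ2) : Equiv.Perm LL) (EL 1) =
    ((q' : ↥twoJ2) : Equiv.Perm LL) (EL 1)) (h2 : ((q : ↥twoJ2) : Equiv.Perm LL) (EL 2) =
    ((q' : ↥twoJ2) : Equiv.Perm LL) (EL 2)) : q = q' := by
  apply Subtype.ext
  apply Subtype.ext
  apply tj_rigid2 q.1.2 q'.1.2
  intro s
  fin_cases s
  · exact (qs_fix q).trans (qs_fix q').symm
  · exact h1
  · exact h2

/-! ## every element is one of the 32 words -/

theorem frameChk_sound' : ∀ (l : List (List ℕ)) (l' : List (V3 × V3)), frameChk l l' = true →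
    ∀ p ∈ l', ∃ w ∈ l, frameOK w p = true := by
  intro l
  induction l with
  | nil =>
    intro l' h p hp
    cases l' with
    | nil => simp at hp
    | cons a l' => simp [frameChk] at h
  | cons w l ih =>
    intro l' h p hp
    cases l' with
    | nil => simp at hp
    | cons a l' =>
      rw [frameChk, Bool.and_eq_true] at h
      rcases List.mem_cons.1 hp with rfl | hp'
      · exact ⟨w, List.mem_cons_self, h.1⟩
      · obtain ⟨w', hw', hok⟩ := ih l' h.2 p hp'
        exact ⟨w', List.mem_cons_of_mem _ hw', hok⟩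

theorem wordG_frame {w : List ℕ} {x y : V3} (hx : minP x) (h : applyW w x = some y) :
    ((wordG w ⟨x.toV, (toV_mem_MV hx).1⟩ : LL) : V) = y.toV :=
  applyW_vec w x y h _

theorem qs_word (q : ↥QS) : ∃ w ∈ qwL, ((q : ↥twoJ2) : Equiv.Perm LL) = wordG w ∧
    wordG w (EL 0) = EL 0 := by
  obtain ⟨p, hp, e1, e2⟩ := frame_mem q.1.2 (qs_fix q)
  obtain ⟨w, hw, hok⟩ := frameChk_sound' _ _ frame_ok p hp
  simp only [frameOK, Bool.and_eq_true, decide_eq_true_eq] at hok
  obtain ⟨⟨h1, h2⟩, h3⟩ := hok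
  have f0 : wordG w (EL 0) = EL 0 := by
    apply Subtype.ext
    rw [EL0_eq]
    exact wordG_frame dV_min h1
  refine ⟨w, hw, ?_, f0⟩
  apply tj_rigid2 q.1.2 (wordG_mem w)
  intro s
  fin_cases s
  · exact (qs_fix q).trans f0.symm
  · apply Subtype.ext
    show (((q : ↥twoJ2) : Equiv.Perm LL) (EL 1) : V) = ((wordG w (EL 1) : LL) : V)
    rw [e1, EL1_eq]
    exact (wordG_frame e2V_min h2).symm
  · apply Subtype.ext
    show (((q : ↥twoJ2) : Equiv.Perm LL) (EL 2) : V) = ((wordG w (EL 2) : LL) : V)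
    rw [e2, EL2_eq]
    exact (wordG_frame e3V_min h3).symm

/-! ## squares -/

def sqOK (w : List ℕ) : Bool :=
  match applyW (w ++ w) e2V, applyW (w ++ w) e3V with
  | some y2, some y3 =>
    (decide (y2 = e2V) && decide (y3 = e3V)) || (decide (y2 = ne2V) && decide (y3 = ne3V))
  | _, _ => false

set_option maxRecDepth 100000 in
theorem sq_ok : ∀ w ∈ qwL, sqOK w = true := by decide +kernel

theorem perm_eq_one_or_zP {g : Equiv.Perm LL} (hg : g ∈ twoJ2) (h0 : g (EL 0) = EL 0)
    {y2 y3 : V3} (h2 : ((g (EL 1) : LL) : V) = y2.toV) (h3 : ((g (EL 2) : LL) : V) = y3.toV)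
    (h : (y2 = e2V ∧ y3 = e3V) ∨ (y2 = ne2V ∧ y3 = ne3V)) : g = 1 ∨ g = zP := by
  rcases h with ⟨rfl, rfl⟩ | ⟨rfl, rfl⟩
  · left
    apply tj_rigid hg
    intro s
    fin_cases s
    · exact h0
    · exact Subtype.ext (h2.trans e2V_toV)
    · exact Subtype.ext (h3.trans e3V_toV)
  · right
    apply tj_rigid2 hg zP_mem
    intro s
    fin_cases s
    · exact h0.trans zP_EL0.symm
    · exact Subtype.ext ((h2.trans ne2V_toV).trans zP_EL1.symm)
    · exact Subtype.ext ((h3.trans ne3V_toV).trans zP_EL2.symm)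

theorem word_sq {w : List ℕ} (hw : w ∈ qwL) (h0 : wordG w (EL 0) = EL 0) :
    wordG w * wordG w = 1 ∨ wordG w * wordG w = zP := by
  have h := sq_ok w hw
  unfold sqOK at h
  rw [← wordG_append]
  have f0 : wordG (w ++ w) (EL 0) = EL 0 := by
    rw [wordG_append, Equiv.Perm.mul_apply, h0, h0]
  cases ha : applyW (w ++ w) e2V with
  | none => rw [ha] at h; exact absurd h (by simp)
  | some y2 =>
    cases hb : applyW (w ++ w) e3V with
    | none => rw [ha, hb] at h; exact absurd h (by simp)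
    | some y3 =>
      rw [ha, hb] at h
      simp only [Bool.or_eq_true, Bool.and_eq_true, decide_eq_true_eq] at h
      have e2 := wordG_frame e2V_min ha
      have e3 := wordG_frame e3V_min hb
      rw [← EL1_eq] at e2
      rw [← EL2_eq] at e3
      exact perm_eq_one_or_zP (wordG_mem _) f0 e2 e3 h

/-! ## reflections perpendicular to `e₁` -/

theorem Fk_fix_of_perp {m : ℕ} (h : (repL.getD m dV).x = zero) : Fk m (EL 0) = EL 0 := by
  apply Subtype.ext
  rw [Fk, reflV_apply (rep_MV m)]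
  show qrefl (V3.toV (repL.getD m dV)) (eV 0) = eV 0
  rw [qrefl_eV_right, V3.toV_zero, h, toH_zero, star_zero]
  funext t
  simp

theorem Fk_mul_self (m : ℕ) : Fk m * Fk m = 1 := reflV_mul_self (rep_MV m)

theorem Fk_inv (m : ℕ) : (Fk m)⁻¹ = Fk m := reflV_inv (rep_MV m)

/-! ## a commutator equal to `z` -/

def commChk : Bool :=
  decide (applyW [28, 19, 28, 19] dV = some dV) && decide (applyW [28, 19, 28, 19] e2V = some ne2V) &&
    decide (applyW [28, 19, 28, 19] e3V = some ne3V) &&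
    decide ((repL.getD 19 dV).x = zero) && decide ((repL.getD 28 dV).x = zero)

set_option maxRecDepth 100000 in
theorem comm_ok : commChk = true := by decide +kernel

theorem comm_eq_zP : Fk 19 * Fk 28 * (Fk 19)⁻¹ * (Fk 28)⁻¹ = zP ∧
    (repL.getD 19 dV).x = zero ∧ (repL.getD 28 dV).x = zero := by
  have h := comm_ok
  simp only [commChk, Bool.and_eq_true, decide_eq_true_eq] at h
  obtain ⟨⟨⟨⟨h1, h2⟩, h3⟩, h4⟩, h5⟩ := h
  refine ⟨?_, h4, h5⟩
  have e : Fk 19 * Fk 28 * (Fk 19)⁻¹ * (Fk 28)⁻¹ = wordG [28, 19, 28, 19] := by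
    rw [Fk_inv, Fk_inv]
    simp [wordG, mul_assoc]
  rw [e]
  apply tj_rigid2 (wordG_mem _) zP_mem
  intro s
  fin_cases s
  · apply Subtype.ext
    show ((wordG [28, 19, 28, 19] (EL 0) : LL) : V) = ((zP (EL 0) : LL) : V)
    rw [zP_EL0, EL0_eq]
    exact wordG_frame dV_min h1
  · apply Subtype.ext
    show ((wordG [28, 19, 28, 19] (EL 1) : LL) : V) = ((zP (EL 1) : LL) : V)
    rw [zP_EL1, EL1_eq, ← ne2V_toV]
    exact wordG_frame e2V_min h2
  · apply Subtype.ext
    show ((wordG [28, 19, 28, 19] (EL 2) : LL) : V) = ((zP (EL 2) : LL) : V)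
    rw [zP_EL2, EL2_eq, ← ne3V_toV]
    exact wordG_frame e3V_min h3

/-! ## the centre -/

def eS (s : ℕ) : V3 := if s = 1 then e2V else e3V

theorem eS_min (s : ℕ) : minP (eS s) := by
  unfold eS
  split_ifs
  · exact e2V_min
  · exact e3V_min

def centOK (w : List ℕ) (ms : ℕ × ℕ) : Bool :=
  match applyW w e2V, applyW w e3V with
  | some y2, some y3 =>
    (decide (y2 = e2V) && decide (y3 = e3V)) || (decide (y2 = ne2V) && decide (y3 = ne3V)) ||
      (decide ((repL.getD ms.1 dV).x = zero) &&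
        (match applyW (ms.1 :: w) (eS ms.2), applyW (w ++ [ms.1]) (eS ms.2) with
         | some a, some b => !decide (a = b)
         | _, _ => false))
  | _, _ => false

def centChk : List (List ℕ) → List (ℕ × ℕ) → Bool
  | w :: l, p :: l' => centOK w p && centChk l l'
  | [], [] => true
  | _, _ => false

theorem centChk_sound : ∀ (l : List (List ℕ)) (l' : List (ℕ × ℕ)), centChk l l' = true →
    ∀ w ∈ l, ∃ ms, centOK w ms = true := by
  intro l
  induction l with
  | nil => intro l' _ w hw; simp at hw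
  | cons a l ih =>
    intro l' h w hw
    cases l' with
    | nil => simp [centChk] at h
    | cons p l' =>
      rw [centChk, Bool.and_eq_true] at h
      rcases List.mem_cons.1 hw with rfl | hw'
      · exact ⟨p, h.1⟩
      · exact ih l' h.2 w hw'

set_option maxRecDepth 100000 in
theorem cent_ok : centChk qwL centL = true := by decide +kernel

theorem word_center {w : List ℕ} (hw : w ∈ qwL) (h0 : wordG w (EL 0) = EL 0)
    (hc : ∀ m : ℕ, (repL.getD m dV).x = zero → wordG w * Fk m = Fk m * wordG w) :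
    wordG w = 1 ∨ wordG w = zP := by
  obtain ⟨ms, h⟩ := centChk_sound _ _ cent_ok w hw
  unfold centOK at h
  cases ha : applyW w e2V with
  | none => rw [ha] at h; exact absurd h (by simp)
  | some y2 =>
    cases hb : applyW w e3V with
    | none => rw [ha, hb] at h; exact absurd h (by simp)
    | some y3 =>
      rw [ha, hb] at h
      simp only [Bool.or_eq_true, Bool.and_eq_true, decide_eq_true_eq] at h
      have e2 := wordG_frame e2V_min ha
      have e3 := wordG_frame e3V_min hb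
      rw [← EL1_eq] at e2
      rw [← EL2_eq] at e3
      rcases h with h | ⟨hperp, h⟩
      · exact perm_eq_one_or_zP (wordG_mem _) h0 e2 e3 h
      · exfalso
        have hcm := hc ms.1 hperp
        cases hx : applyW (ms.1 :: w) (eS ms.2) with
        | none => rw [hx] at h; exact absurd h (by simp)
        | some a =>
          cases hy : applyW (w ++ [ms.1]) (eS ms.2) with
          | none => rw [hx, hy] at h; exact absurd h (by simp)
          | some b =>
            rw [hx, hy] at h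
            simp only [Bool.not_eq_true', decide_eq_false_iff_not] at h
            apply h
            have f1 := wordG_frame (eS_min ms.2) hx
            have f2 := wordG_frame (eS_min ms.2) hy
            have e : wordG (ms.1 :: w) = wordG (w ++ [ms.1]) := by
              rw [wordG_append]
              show wordG w * Fk ms.1 = wordG [ms.1] * wordG w
              rw [hcm]
              simp [wordG]
            rw [e] at f1
            exact V3.toV_injective (f1.symm.trans f2)

/-! ## the extraspecial data -/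

theorem F0_EL0 : reflV (eV 0) (EL 0) = nu (EL 0) := by
  apply Subtype.ext
  rw [reflV_apply (eV_MV 0), nu_apply, qrefl_eV]
  funext t
  show (if t = 0 then -eV 0 t else eV 0 t) = -(eV 0 t)
  fin_cases t <;> simp [eV]

theorem F0_fix {x : LL} (hx : (x : V) 0 = 0) : reflV (eV 0) x = x := by
  apply Subtype.ext
  rw [reflV_apply (eV_MV 0), qrefl_eV]
  funext t
  by_cases h : t = 0
  · subst h
    simp [hx]
  · simp [h]

theorem qs_coord0 (q : ↥QS) (s : Fin 3) (hs : eV s 0 = 0) :
    ((((q : ↥twoJ2) : Equiv.Perm LL) (EL s) : LL) : V) 0 = 0 := by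
  have h1 := tj_iso q.1.2 (EL s) (EL 0)
  rw [qs_fix q] at h1
  have h1' : qip ((((q : ↥twoJ2) : Equiv.Perm LL) (EL s) : LL) : V) (eV 0) =
      qip (eV s) (eV 0) := h1
  rw [qip_eV_right, qip_eV_right, hs, mul_zero] at h1'
  exact two_mul_cancel (by rw [h1', mul_zero])

theorem nu_comm {g : Equiv.Perm LL} (hg : g ∈ twoJ2) (x : LL) : nu (g x) = g (nu x) :=
  center_comm nu_center hg x

theorem qs_comm_F0 (q : ↥QS) : ((q : ↥twoJ2) : Equiv.Perm LL) * reflV (eV 0) =
    reflV (eV 0) * ((q : ↥twoJ2) : Equiv.Perm LL) := by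
  apply tj_rigid2 (mul_mem q.1.2 (reflV_mem_twoJ2 (eV_MV 0)))
    (mul_mem (reflV_mem_twoJ2 (eV_MV 0)) q.1.2)
  intro s
  rw [Equiv.Perm.mul_apply, Equiv.Perm.mul_apply]
  fin_cases s
  · show ((q : ↥twoJ2) : Equiv.Perm LL) (reflV (eV 0) (EL 0)) =
      reflV (eV 0) (((q : ↥twoJ2) : Equiv.Perm LL) (EL 0))
    rw [qs_fix q, F0_EL0, ← nu_comm q.1.2, qs_fix q]
  · show ((q : ↥twoJ2) : Equiv.Perm LL) (reflV (eV 0) (EL 1)) =
      reflV (eV 0) (((q : ↥twoJ2) : Equiv.Perm LL) (EL 1))
    rw [F0_fix (x := EL 1) (by simp [EL, eV]), F0_fix (qs_coord0 q 1 (by simp [eV]))]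
  · show ((q : ↥twoJ2) : Equiv.Perm LL) (reflV (eV 0) (EL 2)) =
      reflV (eV 0) (((q : ↥twoJ2) : Equiv.Perm LL) (EL 2))
    rw [F0_fix (x := EL 2) (by simp [EL, eV]), F0_fix (qs_coord0 q 2 (by simp [eV]))]

theorem qs_comm_zP (q : ↥QS) : ((q : ↥twoJ2) : Equiv.Perm LL) * zP =
    zP * ((q : ↥twoJ2) : Equiv.Perm LL) := by
  have h1 : ((q : ↥twoJ2) : Equiv.Perm LL) * nu = nu * ((q : ↥twoJ2) : Equiv.Perm LL) :=
    congrArg Subtype.val (Subgroup.mem_center_iff.1 nu_center q.1)
  unfold zP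
  calc ((q : ↥twoJ2) : Equiv.Perm LL) * (nu * reflV (eV 0))
      = (((q : ↥twoJ2) : Equiv.Perm LL) * nu) * reflV (eV 0) := by rw [mul_assoc]
    _ = nu * (((q : ↥twoJ2) : Equiv.Perm LL) * reflV (eV 0)) := by rw [h1, mul_assoc]
    _ = nu * reflV (eV 0) * ((q : ↥twoJ2) : Equiv.Perm LL) := by rw [qs_comm_F0, mul_assoc]

/-- `z`, as an element of the stabiliser -/
noncomputable def zQ : ↥QS := mkQ zP zP_mem zP_EL0

theorem zQ_ne_one : zQ ≠ 1 := by
  intro h
  have h1 : zP (EL 1) = EL 1 :=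
    congrArg (fun q : ↥QS => ((q : ↥twoJ2) : Equiv.Perm LL) (EL 1)) h
  have h2 := congrArg Subtype.val h1
  rw [zP_EL1] at h2
  have h3 : -(eV 1 1) = eV 1 1 := congrFun h2 1
  have h4 : eV 1 1 = 0 := eq_zero_of_eq_neg h3.symm
  have h5 : (2 : ℍ[ℝ]) = 0 := by simpa [eV] using h4
  exact one_ne_zero (two_mul_cancel (a := (1 : ℍ[ℝ])) (b := 0) (by rw [mul_one, mul_zero, h5]))

theorem esdata_QS : ESData ↥QS := by
  refine ⟨zQ, zQ_ne_one, ?_, ?_, ?_, ?_, card_QS⟩
  · intro a
    exact Subtype.ext (Subtype.ext (qs_comm_zP a))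
  · intro c hc
    obtain ⟨w, hw, e, f0⟩ := qs_word c
    have hcases : wordG w = 1 ∨ wordG w = zP := by
      apply word_center hw f0
      intro m hm
      have h1 := hc (mkQ (Fk m) (Fk_mem m) (Fk_fix_of_perp hm))
      have h2 : Fk m * ((c : ↥twoJ2) : Equiv.Perm LL) = ((c : ↥twoJ2) : Equiv.Perm LL) * Fk m :=
        congrArg (fun q : ↥QS => ((q : ↥twoJ2) : Equiv.Perm LL)) h1
      rw [← e]
      exact h2.symm
    rcases hcases with h | h
    · left
      exact Subtype.ext (Subtype.ext (e.trans h))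
    · right
      exact Subtype.ext (Subtype.ext (e.trans h))
  · intro a
    obtain ⟨w, hw, e, f0⟩ := qs_word a
    rcases word_sq hw f0 with h | h
    · left
      apply Subtype.ext
      apply Subtype.ext
      show ((a : ↥twoJ2) : Equiv.Perm LL) * ((a : ↥twoJ2) : Equiv.Perm LL) = 1
      rw [e, h]
    · right
      apply Subtype.ext
      apply Subtype.ext
      show ((a : ↥twoJ2) : Equiv.Perm LL) * ((a : ↥twoJ2) : Equiv.Perm LL) = zP
      rw [e, h]
  · obtain ⟨h, h19, h28⟩ := comm_eq_zP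
    refine ⟨mkQ (Fk 19) (Fk_mem 19) (Fk_fix_of_perp h19),
      mkQ (Fk 28) (Fk_mem 28) (Fk_fix_of_perp h28), ?_⟩
    exact Subtype.ext (Subtype.ext h)

end Cfsg.Agent.H9.J2
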